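import Cfsg.Prelude.Def_Transfer
import Cfsg.Agent.Lib.Classif.TISets
import Cfsg.Agent.Lib.OddOrder.PuigSeries

/-! A TI elementary abelian subgroup which is maximal abelian normal in its normalizer, with a conjugate
inside the largest normal 2-subgroup of that normalizer. -/

set_option autoImplicit false

namespace CfsgLib.TIWeak

open Subgroup CfsgLib.Classif
open scoped commutatorElement

variable {G : Type*} [Group G]

/-- The standing hypotheses on `V` and `Q = O₂(N(V))`. -/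
structure Setup (V Q : Subgroup G) : Prop where
  elem : Cfsg.IsElementaryAbelian 2 V
  V_le_Q : V ≤ Q
  Q_le : Q ≤ normalizer (V : Set G)
  Q_conj : ∀ m ∈ normalizer (V : Set G), ∀ q ∈ Q, m * q * m⁻¹ ∈ Q
  Q_two : IsPGroup 2 ↥Q
  Q_max : ∀ R : Subgroup G, R ≤ normalizer (V : Set G) →
    (∀ m ∈ normalizer (V : Set G), ∀ r ∈ R, m * r * m⁻¹ ∈ R) → IsPGroup 2 ↥R → R ≤ Q
  constrained : ∀ m ∈ normalizer (V : Set G), (∀ q ∈ Q, m * q = q * m) → m ∈ Q
  maxab : ∀ A : Subgroup G, V ≤ A → A ≤ normalizer (V : Set G) → IsMulCommutative ↥A →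
    (∀ m ∈ normalizer (V : Set G), ∀ a ∈ A, m * a * m⁻¹ ∈ A) → A = V
  ti : ∀ x : G, conjSub V x = V ∨ conjSub V x ⊓ V = ⊥

/-- A conjugate of `V`, different from `V`, inside `Q`. -/
def Nbr (V Q U : Subgroup G) : Prop := (∃ x, U = conjSub V x) ∧ U ≠ V ∧ U ≤ Q

theorem mem_conjSub_iff {A : Subgroup G} {x y : G} : y ∈ conjSub A x ↔ x⁻¹ * y * x ∈ A := by
  constructor
  · rintro ⟨a, ha, rfl⟩
    show x⁻¹ * (x * a * x⁻¹) * x ∈ A
    simpa [mul_assoc] using ha
  · intro h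
    exact ⟨_, h, by simp [mul_assoc]⟩

theorem conjSub_conjSub (A : Subgroup G) (x y : G) : conjSub (conjSub A y) x = conjSub A (x * y) := by
  ext z
  simp [mem_conjSub_iff, mul_assoc]

theorem conjSub_one (A : Subgroup G) : conjSub A 1 = A := by
  ext z
  simp [mem_conjSub_iff]

theorem conjSub_mono {A B : Subgroup G} (h : A ≤ B) (x : G) : conjSub A x ≤ conjSub B x := map_mono h

theorem pow_two_power_normal_fix [Finite G] {A : Subgroup G} (hA : IsPGroup 2 ↥A) (hA1 : A ≠ ⊥)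
    (H : Subgroup G) (hH : IsPGroup 2 ↥H) (hn : ∀ h ∈ H, ∀ a ∈ A, h * a * h⁻¹ ∈ A) :
    ∃ a ∈ A, a ≠ 1 ∧ ∀ h ∈ H, h * a = a * h := by
  have : Fact (Nat.Prime 2) := ⟨Nat.prime_two⟩
  have hnorm : H ≤ normalizer (A : Set G) := fun h hh =>
    mem_normalizer_fintype (S := (A : Set G)) fun a ha => hn h hh a ha
  have hS : IsPGroup 2 ↥(H ⊔ A) := hH.to_sup_of_normal_right' hA hnorm
  have hNn : (A.subgroupOf (H ⊔ A)).Normal :=
    normal_subgroupOf_of_le_normalizer (sup_le hnorm le_normalizer)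
  have hNbot : A.subgroupOf (H ⊔ A) ≠ ⊥ := fun h => hA1 (by
    have := subgroupOf_eq_bot.1 h
    exact le_bot_iff.1 (this le_rfl le_sup_right))
  have h1 : (A.subgroupOf (H ⊔ A)) ⊓ center ↥(H ⊔ A) ≠ ⊥ := by
    have := hS.isNilpotent
    rw [inf_comm]
    exact CfsgLib.OddOrder.PuigSeries.inf_center_ne_bot _ hNbot
  obtain ⟨⟨⟨a, haS⟩, haN, haC⟩, ha1⟩ := ne_bot_iff_exists_ne_one.1 h1
  refine ⟨a, mem_subgroupOf.1 haN, fun h => ha1 (Subtype.ext (Subtype.ext h)), fun h hh => ?_⟩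
  exact congrArg Subtype.val (mem_center_iff.1 haC ⟨h, le_sup_left (b := A) hh⟩)

namespace Setup

variable {V Q : Subgroup G} (S : Setup V Q)
include S

theorem sq {v : G} (hv : v ∈ V) : v * v = 1 := by rw [← pow_two]; exact S.elem.2 v hv

theorem inv_eq {v : G} (hv : v ∈ V) : v⁻¹ = v := inv_eq_of_mul_eq_one_left (S.sq hv)

theorem commV {a b : G} (ha : a ∈ V) (hb : b ∈ V) : a * b = b * a :=
  congrArg Subtype.val (S.elem.1.is_comm.comm ⟨a, ha⟩ ⟨b, hb⟩)

theorem conjV {m v : G} (hm : m ∈ normalizer (V : Set G)) (hv : v ∈ V) : m * v * m⁻¹ ∈ V :=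
  (mem_normalizer_iff.1 hm v).1 hv

theorem norm_of_conj_mem {x v : G} (hv : v ∈ V) (hv1 : v ≠ 1) (h : x * v * x⁻¹ ∈ V) :
    x ∈ normalizer (V : Set G) := by
  refine conjSub_eq_iff.1 ((S.ti x).resolve_right fun hb => hv1 ?_)
  have : x * v * x⁻¹ ∈ conjSub V x ⊓ V := ⟨conj_mem_conjSub x hv, h⟩
  rw [hb, mem_bot] at this
  exact mul_right_injective x (mul_inv_eq_one.1 this |>.trans (mul_one x).symm)

theorem norm_of_commute {x v : G} (hv : v ∈ V) (hv1 : v ≠ 1) (h : x * v = v * x) :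
    x ∈ normalizer (V : Set G) :=
  S.norm_of_conj_mem hv hv1 (by rw [h, mul_inv_cancel_right]; exact hv)

theorem conj_eq_or_disjoint (x y : G) : conjSub V x = conjSub V y ∨ conjSub V x ⊓ conjSub V y = ⊥ := by
  rcases S.ti (y⁻¹ * x) with h | h
  · left
    have := congrArg (conjSub · y) h
    simpa [conjSub_conjSub] using this
  · right
    rw [eq_bot_iff]
    rintro w ⟨h1, h2⟩
    replace h1 : w ∈ conjSub V x := h1
    replace h2 : w ∈ conjSub V y := h2
    rw [mem_conjSub_iff] at h1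
    have h2' := mem_conjSub_iff.1 h2
    have h3 : y⁻¹ * w * y ∈ conjSub V (y⁻¹ * x) ⊓ V :=
      ⟨mem_conjSub_iff.2 (by simpa [mul_assoc] using h1), h2'⟩
    rw [h, mem_bot] at h3
    rw [mem_bot]
    calc w = y * (y⁻¹ * w * y) * y⁻¹ := by group
      _ = 1 := by rw [h3]; group

theorem conj_eq_of_mem {x y w : G} (h1 : w ∈ conjSub V x) (h2 : w ∈ conjSub V y) (hw : w ≠ 1) :
    conjSub V x = conjSub V y :=
  (S.conj_eq_or_disjoint x y).resolve_right fun h => hw (mem_bot.1 (h ▸ ⟨h1, h2⟩))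

/-- Anything abelian normal in `N(V)` and commuting with `V` lies in `V`. -/
theorem abelian_normal_le {A : Subgroup G} (hA : A ≤ normalizer (V : Set G))
    (hn : ∀ m ∈ normalizer (V : Set G), ∀ a ∈ A, m * a * m⁻¹ ∈ A)
    (hc : ∀ a ∈ A, ∀ b ∈ A, a * b = b * a) (hcV : ∀ a ∈ A, ∀ v ∈ V, a * v = v * a) : A ≤ V := by
  have hsup : A ⊔ V = closure ((A : Set G) ∪ V) := by
    rw [Subgroup.closure_union, Subgroup.closure_eq, Subgroup.closure_eq]
  have hab : IsMulCommutative ↥(A ⊔ V) := by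
    rw [hsup]
    refine isMulCommutative_closure ?_
    rintro a (ha | ha) b (hb | hb)
    · exact hc a ha b hb
    · exact hcV a ha b hb
    · exact (hcV b hb a ha).symm
    · exact S.commV ha hb
  refine le_of_le_of_eq le_sup_left (S.maxab (A ⊔ V) le_sup_right (sup_le hA le_normalizer) hab ?_)
  intro m hm x hx
  have hle : conjSub (A ⊔ V) m ≤ A ⊔ V := by
    rw [conjSub, Subgroup.map_sup]
    refine sup_le_sup ?_ (conjSub_eq_iff.2 hm).le
    rintro _ ⟨a, ha, rfl⟩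
    exact hn m hm a ha
  exact hle (conj_mem_conjSub m hx)

/-- `C_Q(V)`. -/
abbrev P (_S : Setup V Q) : Subgroup G := Q ⊓ centralizer (V : Set G)

omit S in
theorem P_comm (S : Setup V Q) {p v : G} (hp : p ∈ S.P) (hv : v ∈ V) : p * v = v * p :=
  (mem_centralizer_iff.1 hp.2 v hv).symm

theorem P_le : S.P ≤ normalizer (V : Set G) := inf_le_left.trans S.Q_le

theorem P_conj {m p : G} (hm : m ∈ normalizer (V : Set G)) (hp : p ∈ S.P) : m * p * m⁻¹ ∈ S.P := by
  refine ⟨S.Q_conj m hm p hp.1, mem_centralizer_iff.2 fun v hv => ?_⟩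
  have h1 : m⁻¹ * v * m ∈ V := (mem_normalizer_iff''.1 hm v).1 hv
  have h2 := S.P_comm hp h1
  calc v * (m * p * m⁻¹) = m * ((m⁻¹ * v * m) * p) * m⁻¹ := by group
    _ = m * (p * (m⁻¹ * v * m)) * m⁻¹ := by rw [h2]
    _ = m * p * m⁻¹ * v := by group

theorem V_le_P : V ≤ S.P :=
  le_inf S.V_le_Q fun _ hv => mem_centralizer_iff.2 fun _ hw => S.commV hw hv

theorem P_two : IsPGroup 2 ↥S.P := S.Q_two.to_le inf_le_left

/-- Iterated commutators with `P`. -/
def ser (S : Setup V Q) : ℕ → Subgroup G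
  | 0 => S.P
  | k + 1 => ⁅S.ser k, S.P⁆

theorem ser_conj : ∀ (k : ℕ) {m a : G}, m ∈ normalizer (V : Set G) → a ∈ S.ser k → m * a * m⁻¹ ∈ S.ser k
  | 0, _, _, hm, ha => S.P_conj hm ha
  | k + 1, m, a, hm, ha => by
    have hle : conjSub (S.ser (k + 1)) m ≤ S.ser (k + 1) := by
      show (⁅S.ser k, S.P⁆ : Subgroup G).map (MulAut.conj m).toMonoidHom ≤ _
      rw [map_commutator]
      refine commutator_mono ?_ ?_
      · rintro _ ⟨b, hb, rfl⟩
        exact ser_conj k hm hb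
      · rintro _ ⟨b, hb, rfl⟩
        exact S.P_conj hm hb
    exact hle (conj_mem_conjSub m ha)

theorem ser_le : ∀ k, S.ser k ≤ S.P
  | 0 => le_rfl
  | k + 1 => (commutator_mono (ser_le k) le_rfl).trans (commutator_le.2 fun a ha b hb => by
      rw [commutatorElement_def]
      exact mul_mem (mul_mem (mul_mem ha hb) (inv_mem ha)) (inv_mem hb))

theorem ser_le_map [Finite G] : ∀ k,
    S.ser k ≤ ((⊤ : Subgroup ↥S.P).lowerCentralSeries k).map (Subgroup.subtype S.P)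
  | 0 => by rw [Subgroup.lowerCentralSeries_zero, ← MonoidHom.range_eq_map, range_subtype]; exact le_rfl
  | k + 1 => by
    show ⁅S.ser k, S.P⁆ ≤ _
    rw [Subgroup.lowerCentralSeries_succ, map_commutator, ← MonoidHom.range_eq_map, range_subtype]
    exact commutator_mono (ser_le_map k) le_rfl

theorem abelian_le_V_of_ser {A : Subgroup G} {k : ℕ} (hA : A = S.ser k)
    (hc : ∀ a ∈ A, ∀ b ∈ A, a * b = b * a) : A ≤ V := by
  subst hA
  exact S.abelian_normal_le ((S.ser_le k).trans S.P_le) (fun m hm a ha => S.ser_conj k hm ha) hc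
    fun a ha v hv => S.P_comm (S.ser_le k ha) hv

theorem ser_two_eq_bot [Finite G] : S.ser 2 = ⊥ := by
  have : Fact (Nat.Prime 2) := ⟨Nat.prime_two⟩
  have := S.P_two.isNilpotent
  obtain ⟨c, hc⟩ := Subgroup.nilpotent_iff_lowerCentralSeries.mp (inferInstance : Group.IsNilpotent ↥S.P)
  have hstep : ∀ k, S.ser (k + 3) = ⊥ → S.ser (k + 2) = ⊥ := by
    intro k h3
    have h1 : ⁅⁅S.ser (k + 1), S.P⁆, S.P⁆ = ⊥ := h3
    have h2 : ⁅⁅S.P, S.ser (k + 1)⁆, S.P⁆ = ⊥ := by rw [commutator_comm S.P]; exact h1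
    have h4 : ⁅⁅S.P, S.P⁆, S.ser (k + 1)⁆ = ⊥ := commutator_commutator_eq_bot_of_rotate h2 h1
    have hle : S.ser (k + 1) ≤ ⁅S.P, S.P⁆ := commutator_mono (S.ser_le k) le_rfl
    have hab : S.ser (k + 1) ≤ V := S.abelian_le_V_of_ser rfl fun a ha b hb =>
      (mem_centralizer_iff.1 (commutator_eq_bot_iff_le_centralizer.1 h4 (hle ha)) b hb).symm
    show ⁅S.ser (k + 1), S.P⁆ = ⊥
    exact commutator_eq_bot_iff_le_centralizer.2 fun a ha =>
      mem_centralizer_iff.2 fun p hp => S.P_comm hp (hab ha)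
  have hbot : ∀ k, S.ser (k + 2) = ⊥ → S.ser 2 = ⊥ := by
    intro k
    induction k with
    | zero => exact id
    | succ k ih => exact fun h => ih (hstep k h)
  refine hbot c (le_bot_iff.1 ((S.ser_le_map (c + 2)).trans ?_))
  rw [show (⊤ : Subgroup ↥S.P).lowerCentralSeries (c + 2) = ⊥ from le_bot_iff.1
    (hc ▸ Subgroup.lowerCentralSeries_antitone _ (by omega)), Subgroup.map_bot]

theorem comm_mem [Finite G] {a b : G} (ha : a ∈ S.P) (hb : b ∈ S.P) : ⁅a, b⁆ ∈ V := by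
  refine S.abelian_le_V_of_ser (k := 1) rfl (fun x hx y hy => ?_) (commutator_mem_commutator ha hb)
  have h2 : ⁅S.ser 1, S.P⁆ = ⊥ := S.ser_two_eq_bot
  exact (mem_centralizer_iff.1 (commutator_eq_bot_iff_le_centralizer.1 h2 hx) y (S.ser_le 1 hy)).symm

theorem comm_self {a b : G} (h : ⁅a, b⁆ ∈ V) : ⁅b, a⁆ = ⁅a, b⁆ := by
  rw [← commutatorElement_inv, S.inv_eq h]

theorem comm_mul_left [Finite G] {a b c : G} (ha : a ∈ S.P) (hb : b ∈ S.P) (hc : c ∈ S.P) :
    ⁅a * b, c⁆ = ⁅a, c⁆ * ⁅b, c⁆ := by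
  calc ⁅a * b, c⁆ = (a * ⁅b, c⁆ * a⁻¹) * ⁅a, c⁆ := by simp only [commutatorElement_def]; group
    _ = ⁅b, c⁆ * ⁅a, c⁆ := by rw [S.P_comm ha (S.comm_mem hb hc), mul_inv_cancel_right]
    _ = ⁅a, c⁆ * ⁅b, c⁆ := S.commV (S.comm_mem hb hc) (S.comm_mem ha hc)

theorem comm_mul_right [Finite G] {a b c : G} (ha : a ∈ S.P) (hb : b ∈ S.P) (hc : c ∈ S.P) :
    ⁅c, a * b⁆ = ⁅c, a⁆ * ⁅c, b⁆ := by
  rw [S.comm_self (S.comm_mem (mul_mem ha hb) hc), S.comm_mul_left ha hb hc,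
    S.comm_self (S.comm_mem hc ha), S.comm_self (S.comm_mem hc hb)]

omit S in
theorem mul_of_comm {a b : G} : a * b * a⁻¹ = ⁅a, b⁆ * b := by simp [commutatorElement_def]

theorem center_P {z : G} (hz : z ∈ S.P) (hc : ∀ p ∈ S.P, z * p = p * z) : z ∈ V := by
  refine S.abelian_normal_le (A := S.P ⊓ centralizer (S.P : Set G)) (inf_le_left.trans S.P_le) ?_
    (fun a ha b hb => (mem_centralizer_iff.1 ha.2 b hb.1).symm) (fun a ha v hv => S.P_comm ha.1 hv)
    ⟨hz, mem_centralizer_iff.2 fun p hp => (hc p hp).symm⟩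
  intro m hm a ha
  refine ⟨S.P_conj hm ha.1, mem_centralizer_iff.2 fun p hp => ?_⟩
  have h1 : m⁻¹ * p * m ∈ S.P := by simpa using S.P_conj (inv_mem hm) hp
  have h2 := mem_centralizer_iff.1 ha.2 _ h1
  calc p * (m * a * m⁻¹) = m * ((m⁻¹ * p * m) * a) * m⁻¹ := by group
    _ = m * (a * (m⁻¹ * p * m)) * m⁻¹ := by rw [h2]
    _ = m * a * m⁻¹ * p := by group

theorem sq_mem [Finite G] {p : G} (hp : p ∈ S.P) : p * p ∈ V :=
  S.center_P (mul_mem hp hp) fun q hq => by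
    have := S.comm_mul_left hp hp hq
    rw [S.sq (S.comm_mem hp hq)] at this
    exact commutatorElement_eq_one_iff_mul_comm.1 this

end Setup

end CfsgLib.TIWeak
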