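import Cfsg.Agent.Lib.Classif.TIWeak.Basic

/-! The commutator pairing between two non-commuting neighbours of `V`. -/

set_option autoImplicit false

namespace CfsgLib.TIWeak

open Subgroup CfsgLib.Classif
open scoped commutatorElement

variable {G : Type*} [Group G] [Finite G] {V Q : Subgroup G}

namespace Setup

variable (S : Setup V Q) {U : Subgroup G}
include S

omit [Finite G] in
theorem nbr_inf (hU : Nbr V Q U) : U ⊓ V = ⊥ := by
  obtain ⟨⟨x, rfl⟩, hne, -⟩ := hU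
  exact (S.ti x).resolve_left hne

theorem V_two : IsPGroup 2 ↥V := S.Q_two.to_le S.V_le_Q

omit [Finite G] in
theorem nbr_card (hU : Nbr V Q U) : Nat.card ↥U = Nat.card ↥V := by
  obtain ⟨⟨x, rfl⟩, -, -⟩ := hU
  exact card_conjSub V x

omit [Finite G] in
theorem nbr_sq (hU : Nbr V Q U) {u : G} (hu : u ∈ U) : u * u = 1 := by
  obtain ⟨⟨x, rfl⟩, -, -⟩ := hU
  have h := S.sq (mem_conjSub_iff.1 hu)
  calc u * u = x * ((x⁻¹ * u * x) * (x⁻¹ * u * x)) * x⁻¹ := by group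
    _ = 1 := by rw [h]; group

omit [Finite G] in
theorem nbr_inv (hU : Nbr V Q U) {u : G} (hu : u ∈ U) : u⁻¹ = u :=
  inv_eq_of_mul_eq_one_left (S.nbr_sq hU hu)

omit [Finite G] in
theorem nbr_comm (hU : Nbr V Q U) {a b : G} (ha : a ∈ U) (hb : b ∈ U) : a * b = b * a :=
  calc a * b = (a * b)⁻¹ := (S.nbr_inv hU (mul_mem ha hb)).symm
    _ = b * a := by rw [mul_inv_rev, S.nbr_inv hU ha, S.nbr_inv hU hb]

/-- A neighbour of `V` centralizes `V`. -/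
theorem nbr_le_P (hU : Nbr V Q U) : U ≤ S.P := by
  have : Fact (Nat.Prime 2) := ⟨Nat.prime_two⟩
  have h := commutator_eq_bot_of_equal_order (p := 2) S.V_two (S.Q_two.to_le hU.2.2)
    (S.nbr_card hU).symm (hU.2.2.trans S.Q_le) (inf_comm U V ▸ S.nbr_inf hU) ?_
  · exact le_inf hU.2.2 fun u hu => mem_centralizer_iff.2 fun v hv =>
      (mem_centralizer_iff.1 (commutator_eq_bot_iff_le_centralizer.1 h hv) u hu).symm
  · obtain ⟨⟨x, rfl⟩, -, -⟩ := hU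
    intro r _
    rw [conjSub_conjSub]
    exact S.conj_eq_or_disjoint _ _

theorem nbr_commV (hU : Nbr V Q U) {u v : G} (hu : u ∈ U) (hv : v ∈ V) : u * v = v * u :=
  S.P_comm (S.nbr_le_P hU hu) hv

omit [Finite G] in
theorem nbr_conj {m : G} (hU : Nbr V Q U) (hm : m ∈ normalizer (V : Set G)) : Nbr V Q (conjSub U m) := by
  obtain ⟨⟨x, rfl⟩, hne, hle⟩ := hU
  refine ⟨⟨m * x, conjSub_conjSub V m x⟩, fun h => hne ?_, ?_⟩
  · have := congrArg (conjSub · m⁻¹) h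
    simp only [conjSub_conjSub, inv_mul_cancel_left, conjSub_eq_iff.2 (inv_mem hm)] at this
    exact this
  · rintro _ ⟨u, hu, rfl⟩
    exact S.Q_conj m hm u (hle hu)

/-- An element of `P` commuting with a non-trivial element of a neighbour commutes with all of it. -/
theorem nbr_cent (hU : Nbr V Q U) {p u₀ u : G} (hp : p ∈ S.P) (hu₀ : u₀ ∈ U) (hu₀1 : u₀ ≠ 1)
    (h : p * u₀ = u₀ * p) (hu : u ∈ U) : p * u = u * p := by
  obtain ⟨⟨x, hx⟩, -, -⟩ := id hU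
  have hpU : conjSub U p = U := by
    subst hx
    rw [conjSub_conjSub]
    refine S.conj_eq_of_mem (w := u₀) ?_ hu₀ hu₀1
    rw [← conjSub_conjSub, mem_conjSub_iff, mul_assoc, ← h, inv_mul_cancel_left]
    exact hu₀
  have h1 : p * u * p⁻¹ ∈ U := by rw [← hpU]; exact conj_mem_conjSub p hu
  have h2 : ⁅p, u⁆ ∈ U ⊓ V := ⟨U.mul_mem h1 (U.inv_mem hu), S.comm_mem hp (S.nbr_le_P hU hu)⟩
  rw [S.nbr_inf hU, mem_bot] at h2
  exact commutatorElement_eq_one_iff_mul_comm.1 h2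

theorem exists_partner (hU : Nbr V Q U) :
    ∃ U', Nbr V Q U' ∧ ∀ u ∈ U, u ≠ 1 → ∀ b ∈ U', b ≠ 1 → u * b ≠ b * u := by
  by_contra hcon
  push Not at hcon
  have hall : ∀ U', Nbr V Q U' → ∀ u ∈ U, ∀ b ∈ U', u * b = b * u := by
    intro U' hU' u hu b hb
    obtain ⟨u₀, hu₀, hu₀1, b₀, hb₀, hb₀1, h⟩ := hcon U' hU'
    exact S.nbr_cent hU' (S.nbr_le_P hU hu) hb₀ hb₀1
      (S.nbr_cent hU (S.nbr_le_P hU' hb₀) hu₀ hu₀1 h.symm hu).symm hb
  set M := normalizer (V : Set G) with hM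
  let T : Set G := {x | ∃ m ∈ M, ∃ u ∈ U, x = m * u * m⁻¹}
  have hTP : closure T ≤ S.P := by
    rw [closure_le]
    rintro _ ⟨m, hm, u, hu, rfl⟩
    exact S.P_conj hm (S.nbr_le_P hU hu)
  have hcomm : IsMulCommutative ↥(closure T) := by
    refine isMulCommutative_closure ?_
    rintro _ ⟨m, hm, u, hu, rfl⟩ _ ⟨m', hm', u', hu', rfl⟩
    have h := hall _ (S.nbr_conj hU (mul_mem (inv_mem hm) hm')) u hu _ (conj_mem_conjSub (m⁻¹ * m') hu')
    calc m * u * m⁻¹ * (m' * u' * m'⁻¹) = m * (u * (m⁻¹ * m' * u' * (m⁻¹ * m')⁻¹)) * m⁻¹ := by group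
      _ = m * (m⁻¹ * m' * u' * (m⁻¹ * m')⁻¹ * u) * m⁻¹ := by rw [h]
      _ = m' * u' * m'⁻¹ * (m * u * m⁻¹) := by group
  have hn : ∀ m ∈ M, ∀ a ∈ closure T, m * a * m⁻¹ ∈ closure T := by
    intro m hm a ha
    have hle : conjSub (closure T) m ≤ closure T := by
      rw [conjSub, MonoidHom.map_closure, closure_le]
      rintro _ ⟨_, ⟨m', hm', u, hu, rfl⟩, rfl⟩
      refine subset_closure ⟨m * m', mul_mem hm hm', u, hu, ?_⟩
      show m * (m' * u * m'⁻¹) * m⁻¹ = _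
      group
    exact hle (conj_mem_conjSub m ha)
  have hle := S.abelian_normal_le (hTP.trans S.P_le) hn
    (fun a ha b hb => congrArg Subtype.val (hcomm.is_comm.comm ⟨a, ha⟩ ⟨b, hb⟩))
    (fun a ha v hv => S.P_comm (hTP ha) hv)
  have hUV : U ≤ V := fun u hu => hle (subset_closure ⟨1, one_mem _, u, hu, by group⟩)
  exact hU.2.1 (eq_of_le_of_card_ge hUV (S.nbr_card hU).ge)

/-- Commutation with a fixed `u ≠ 1` maps a partner bijectively onto `V`. -/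
theorem partner_surj (hU : Nbr V Q U) {U' : Subgroup G} (hU' : Nbr V Q U') {u : G} (hu : u ∈ U)
    (hne : ∀ b ∈ U', b ≠ 1 → u * b ≠ b * u) {v : G} (hv : v ∈ V) : ∃ b ∈ U', ⁅u, b⁆ = v := by
  let f : ↥U' → ↥V := fun b => ⟨⁅u, (b : G)⁆, S.comm_mem (S.nbr_le_P hU hu) (S.nbr_le_P hU' b.2)⟩
  have hinj : Function.Injective f := by
    rintro ⟨a, ha⟩ ⟨b, hb⟩ h
    have h' : ⁅u, a⁆ = ⁅u, b⁆ := congrArg Subtype.val h
    by_contra hab
    refine hne (a * b) (mul_mem ha hb) (fun h1 => hab (Subtype.ext ?_))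
      (commutatorElement_eq_one_iff_mul_comm.1 ?_)
    · exact (eq_inv_of_mul_eq_one_left h1).trans (S.nbr_inv hU' hb)
    · rw [S.comm_mul_right (S.nbr_le_P hU' ha) (S.nbr_le_P hU' hb) (S.nbr_le_P hU hu), h',
        S.sq (S.comm_mem (S.nbr_le_P hU hu) (S.nbr_le_P hU' hb))]
  obtain ⟨⟨b, hb⟩, h⟩ := ((Nat.bijective_iff_injective_and_card f).2 ⟨hinj, S.nbr_card hU'⟩).2 ⟨v, hv⟩
  exact ⟨b, hb, congrArg Subtype.val h⟩

theorem comm_surj (hU : Nbr V Q U) {u : G} (hu : u ∈ U) (hu1 : u ≠ 1) {v : G} (hv : v ∈ V) :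
    ∃ p ∈ S.P, ⁅u, p⁆ = v := by
  obtain ⟨U', hU', hne⟩ := S.exists_partner hU
  obtain ⟨b, hb, h⟩ := S.partner_surj hU hU' hu (hne u hu hu1) hv
  exact ⟨b, S.nbr_le_P hU' hb, h⟩

/-- For `p` not centralizing `U`, commutation with `p` maps `U` bijectively onto `V`. -/
theorem comm_surj' (hU : Nbr V Q U) {p u₀ : G} (hp : p ∈ S.P) (hu₀ : u₀ ∈ U) (h : p * u₀ ≠ u₀ * p)
    {v : G} (hv : v ∈ V) : ∃ u ∈ U, ⁅u, p⁆ = v := by
  let f : ↥U → ↥V := fun u => ⟨⁅(u : G), p⁆, S.comm_mem (S.nbr_le_P hU u.2) hp⟩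
  have hinj : Function.Injective f := by
    rintro ⟨a, ha⟩ ⟨b, hb⟩ he
    have he' : ⁅a, p⁆ = ⁅b, p⁆ := congrArg Subtype.val he
    by_contra hab
    refine h (S.nbr_cent hU hp (mul_mem ha hb) (fun h1 => hab (Subtype.ext ?_))
      (commutatorElement_eq_one_iff_mul_comm.1 ?_).symm hu₀)
    · exact (eq_inv_of_mul_eq_one_left h1).trans (S.nbr_inv hU hb)
    · rw [S.comm_mul_left (S.nbr_le_P hU ha) (S.nbr_le_P hU hb) hp, he', S.sq (S.comm_mem (S.nbr_le_P hU hb) hp)]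
  obtain ⟨⟨u, hu⟩, he⟩ := ((Nat.bijective_iff_injective_and_card f).2 ⟨hinj, S.nbr_card hU⟩).2 ⟨v, hv⟩
  exact ⟨u, hu, congrArg Subtype.val he⟩

omit [Finite G] in
theorem nbr_ne_bot (hU : Nbr V Q U) : ∃ u ∈ U, u ≠ 1 := by
  by_contra h
  push Not at h
  have hb : U = ⊥ := (eq_bot_iff_forall _).2 h
  obtain ⟨⟨x, rfl⟩, hne, -⟩ := hU
  have : V = ⊥ := (map_eq_bot_iff_of_injective V (MulAut.conj x).injective).1 hb
  exact hne (hb.trans this.symm)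

theorem mem_sup_iff (hU : Nbr V Q U) {w : G} : w ∈ V ⊔ U ↔ ∃ v ∈ V, ∃ u ∈ U, w = v * u := by
  constructor
  · intro hw
    have h : w ∈ ((V ⊔ U : Subgroup G) : Set G) := hw
    rw [coe_mul_of_right_le_normalizer_left V U (hU.2.2.trans S.Q_le)] at h
    obtain ⟨v, hv, u, hu, rfl⟩ := h
    exact ⟨v, hv, u, hu, rfl⟩
  · rintro ⟨v, hv, u, hu, rfl⟩
    exact mul_mem_sup hv hu

theorem sup_le_P (hU : Nbr V Q U) : V ⊔ U ≤ S.P := sup_le S.V_le_P (S.nbr_le_P hU)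

theorem P_le_norm_sup (hU : Nbr V Q U) : S.P ≤ normalizer ((V ⊔ U : Subgroup G) : Set G) := by
  intro p hp
  refine mem_normalizer_fintype (S := ((V ⊔ U : Subgroup G) : Set G)) fun w hw => ?_
  rw [Setup.mul_of_comm]
  exact mul_mem ((le_sup_left : V ≤ V ⊔ U) (S.comm_mem hp (S.sup_le_P hU hw))) hw

theorem mem_W_cases (hU : Nbr V Q U) {w : G} (hw : w ∈ V ⊔ U) (hwV : w ∉ V) :
    ∃ p ∈ S.P, w ∈ conjSub U p := by
  obtain ⟨v, hv, u, hu, rfl⟩ := (S.mem_sup_iff hU).1 hw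
  have hu1 : u ≠ 1 := fun h => hwV (by rw [h, mul_one]; exact hv)
  obtain ⟨p, hp, h⟩ := S.comm_surj hU hu hu1 hv
  refine ⟨p, hp, ?_⟩
  rw [← h, ← S.comm_self (h ▸ hv), ← Setup.mul_of_comm]
  exact conj_mem_conjSub p hu

theorem conj_in_W (hU : Nbr V Q U) {x w : G} (hwT : w ∈ conjSub V x) (hw : w ∈ V ⊔ U) (hw1 : w ≠ 1) :
    conjSub V x = V ∨ ∃ p ∈ S.P, conjSub V x = conjSub U p := by
  by_cases hwV : w ∈ V
  · left
    have := S.conj_eq_of_mem (y := 1) hwT (by rwa [conjSub_one]) hw1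
    rwa [conjSub_one] at this
  · obtain ⟨p, hp, h⟩ := S.mem_W_cases hU hw hwV
    obtain ⟨⟨y, rfl⟩, -, -⟩ := hU
    rw [conjSub_conjSub] at h
    exact Or.inr ⟨p, hp, by rw [conjSub_conjSub]; exact S.conj_eq_of_mem hwT h hw1⟩

/-- `C_P(C_P(U)) = UV`. -/
theorem cent_cent (hU : Nbr V Q U) {z : G} (hz : z ∈ S.P)
    (hzX : ∀ x ∈ S.P ⊓ centralizer (U : Set G), z * x = x * z) : z ∈ V ⊔ U := by
  obtain ⟨U', hU', hne⟩ := S.exists_partner hU
  obtain ⟨b₀, hb₀, hb₀1⟩ := S.nbr_ne_bot hU'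
  obtain ⟨u₀, hu₀, hu₀1⟩ := S.nbr_ne_bot hU
  obtain ⟨u, hu, h⟩ := S.comm_surj' hU (S.nbr_le_P hU' hb₀) hu₀ (Ne.symm (hne u₀ hu₀ hu₀1 b₀ hb₀ hb₀1))
    (S.comm_mem hz (S.nbr_le_P hU' hb₀))
  have hyP : u * z ∈ S.P := mul_mem (S.nbr_le_P hU hu) hz
  have hy0 : u * z * b₀ = b₀ * (u * z) := commutatorElement_eq_one_iff_mul_comm.1 (by
    rw [S.comm_mul_left (S.nbr_le_P hU hu) hz (S.nbr_le_P hU' hb₀), h,
      S.sq (S.comm_mem hz (S.nbr_le_P hU' hb₀))])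
  have hyU' : ∀ b ∈ U', u * z * b = b * (u * z) := fun b hb => S.nbr_cent hU' hyP hb₀ hb₀1 hy0 hb
  have hyV : u * z ∈ V := by
    refine S.center_P hyP fun p hp => ?_
    obtain ⟨b, hb, hbp⟩ := S.partner_surj hU hU' hu₀ (hne u₀ hu₀ hu₀1) (S.comm_mem (S.nbr_le_P hU hu₀) hp)
    have hxX : b * p ∈ S.P ⊓ centralizer (U : Set G) := by
      refine ⟨mul_mem (S.nbr_le_P hU' hb) hp, mem_centralizer_iff.2 fun u₁ hu₁ => ?_⟩
      refine (S.nbr_cent hU (mul_mem (S.nbr_le_P hU' hb) hp) hu₀ hu₀1 ?_ hu₁).symm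
      refine (commutatorElement_eq_one_iff_mul_comm.1 ?_).symm
      rw [S.comm_mul_right (S.nbr_le_P hU' hb) hp (S.nbr_le_P hU hu₀), hbp,
        S.sq (S.comm_mem (S.nbr_le_P hU hu₀) hp)]
    have h1 : u * z * (b * p) = b * p * (u * z) := by
      have hc1 : Commute u (b * p) := mem_centralizer_iff.1 hxX.2 u hu
      have hc2 : Commute z (b * p) := hzX _ hxX
      exact (hc1.mul_left hc2).eq
    calc u * z * p = u * z * b⁻¹ * (b * p) := by group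
      _ = b⁻¹ * (u * z) * (b * p) := by rw [hyU' _ (inv_mem hb)]
      _ = b⁻¹ * (b * p * (u * z)) := by rw [mul_assoc, h1]
      _ = p * (u * z) := by group
  have : z = (u * z) * u := by
    rw [← S.nbr_commV hU hu hyV, ← mul_assoc, S.nbr_sq hU hu, one_mul]
  rw [this]
  exact mul_mem_sup hyV hu

/-- A 2-subgroup of `N(V)` centralizing `U` centralizes `V`. -/
theorem centralize_of_two (hU : Nbr V Q U) {H : Subgroup G} (hH : IsPGroup 2 ↥H)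
    (hHn : H ≤ normalizer (V : Set G)) (hHc : H ≤ centralizer (U : Set G)) : H ≤ centralizer (V : Set G) := by
  have hVb : V ≠ ⊥ := fun h => by
    obtain ⟨u, hu, hu1⟩ := S.nbr_ne_bot hU
    have hc := S.nbr_card hU
    rw [h, card_bot] at hc
    rw [Subgroup.card_eq_one.1 hc, mem_bot] at hu
    exact hu1 hu
  obtain ⟨v₀, hv₀, hv₀1, hfix⟩ := pow_two_power_normal_fix S.V_two hVb H hH
    (fun h hh a ha => S.conjV (hHn hh) ha)
  obtain ⟨u₀, hu₀, hu₀1⟩ := S.nbr_ne_bot hU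
  obtain ⟨p, hp, hpv⟩ := S.comm_surj hU hu₀ hu₀1 hv₀
  intro a ha
  refine mem_centralizer_iff.2 fun v hv => ?_
  have hap : a * p * a⁻¹ ∈ S.P := S.P_conj (hHn ha) hp
  have hconj : ∀ u ∈ U, ⁅u, a * p * a⁻¹⁆ = a * ⁅u, p⁆ * a⁻¹ := by
    intro u hu
    have hcomm : a * u = u * a := (mem_centralizer_iff.1 (hHc ha) u hu).symm
    have hu' : a * u * a⁻¹ = u := by rw [hcomm, mul_inv_cancel_right]
    conv_lhs => rw [← hu']
    simp only [commutatorElement_def]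
    group
  have hdP : p * (a * p * a⁻¹) ∈ S.P := mul_mem hp hap
  have hd : ∀ u ∈ U, p * (a * p * a⁻¹) * u = u * (p * (a * p * a⁻¹)) := by
    intro u hu
    refine S.nbr_cent hU hdP hu₀ hu₀1 (commutatorElement_eq_one_iff_mul_comm.1 ?_).symm hu
    rw [S.comm_mul_right hp hap (S.nbr_le_P hU hu₀), hconj u₀ hu₀, hpv, hfix a ha, mul_inv_cancel_right,
      S.sq hv₀]
  obtain ⟨u, hu, rfl⟩ := S.comm_surj' hU hp hu₀ (fun h => hv₀1 (by
    rw [← hpv]; exact commutatorElement_eq_one_iff_mul_comm.2 h.symm)) hv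
  have h1 : ⁅u, p⁆ * (a * ⁅u, p⁆ * a⁻¹) = 1 := by
    rw [← hconj u hu, ← S.comm_mul_right hp hap (S.nbr_le_P hU hu)]
    exact commutatorElement_eq_one_iff_mul_comm.2 (hd u hu).symm
  have h2 : a * ⁅u, p⁆ * a⁻¹ = ⁅u, p⁆ := by
    rw [eq_inv_of_mul_eq_one_right h1, S.inv_eq hv]
  exact (mul_inv_eq_iff_eq_mul.1 h2).symm

end Setup

end CfsgLib.TIWeak
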