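import Cfsg.Agent.Lib.Classif.TIWeak.Structure
import Cfsg.Agent.Lib.Classif.SpreadFieldMain
import Cfsg.Agent.Classical.SLGen

/-! The group generated by the two translation groups induces `SL₂` on `W = VU`. -/

set_option autoImplicit false

namespace CfsgLib.TIWeak

open Subgroup CfsgLib.Classif
open scoped commutatorElement

variable {G : Type*} [Group G]

/-- Coordinates for a finite subgroup of exponent two. -/
theorem exists_coord [Finite G] (A : Subgroup G) (hc : ∀ a ∈ A, ∀ b ∈ A, a * b = b * a) (hs : ∀ a ∈ A, a * a = 1) :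
    ∃ (n : ℕ) (ε : (Fin n → ZMod 2) → G), (∀ x, ε x ∈ A) ∧ (∀ x y, ε (x + y) = ε x * ε y) ∧
      Function.Injective ε ∧ (∀ a ∈ A, ∃ x, ε x = a) ∧ Nat.card ↥A = 2 ^ n := by
  let _ : CommGroup ↥A :=
    { (inferInstance : Group ↥A) with mul_comm := fun a b => Subtype.ext (hc _ a.2 _ b.2) }
  let _ : Module (ZMod 2) (Additive ↥A) := AddCommGroup.zmodModule fun x => by
    rw [two_nsmul]
    exact congrArg Additive.ofMul (Subtype.ext (hs _ x.toMul.2) : x.toMul * x.toMul = 1)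
  have : Finite (Additive ↥A) := inferInstanceAs (Finite ↥A)
  have : Module.Finite (ZMod 2) (Additive ↥A) := Module.Finite.of_finite
  let e := (Module.finBasis (ZMod 2) (Additive ↥A)).equivFun.symm
  refine ⟨_, fun x => ((e x).toMul : ↥A).1, fun x => (e x).toMul.2, fun x y => ?_, ?_, fun a ha => ?_, ?_⟩
  · show ((e (x + y)).toMul : ↥A).1 = _
    rw [map_add]; rfl
  · intro x y h
    exact e.injective (Additive.toMul.injective (Subtype.ext h))
  · exact ⟨e.symm (Additive.ofMul ⟨a, ha⟩), by show ((e (e.symm _)).toMul : ↥A).1 = a; rw [e.apply_symm_apply]; rfl⟩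
  · rw [show Nat.card ↥A = Nat.card (Additive ↥A) from Nat.card_congr Additive.ofMul,
      ← Nat.card_congr e.toEquiv, Nat.card_fun, Nat.card_zmod, Nat.card_fin]

variable {n : ℕ}

/-- A map between coordinatized groups which is additive is given by a matrix. -/
theorem exists_matrix {δ : (Fin n → ZMod 2) → G} (hδ : Function.Injective δ)
    (hδadd : ∀ x y, δ (x + y) = δ x * δ y) (f : (Fin n → ZMod 2) → G) (hf : ∀ x, ∃ y, δ y = f x)
    (hfadd : ∀ x y, f (x + y) = f x * f y) :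
    ∃ M : Matrix (Fin n) (Fin n) (ZMod 2), ∀ x, δ (M.mulVec x) = f x := by
  choose g hg using hf
  let g' : (Fin n → ZMod 2) →+ (Fin n → ZMod 2) :=
    AddMonoidHom.mk' g fun x y => hδ (by rw [hg, hδadd, hg, hg, hfadd])
  exact ⟨LinearMap.toMatrix' (g'.toZModLinearMap 2), fun x => by
    rw [LinearMap.toMatrix'_mulVec]; exact hg x⟩

namespace Setup

variable [Finite G] {V Q U : Subgroup G} (S : Setup V Q)
include S

theorem swap_conj {s : G} (hsU : conjSub U s = V) (hsV : conjSub V s = U) {v : G} (hv : v ∈ V) :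
    s * v * s⁻¹ ∈ U ∧ s⁻¹ * v * s ∈ U :=
  ⟨hsV ▸ conj_mem_conjSub s hv, mem_conjSub_iff.1 (hsU.symm ▸ hv)⟩

/-- The translation `c = sqs⁻¹` on `V`. -/
theorem low_mem (hU : Nbr V Q U) {s : G} (hsU : conjSub U s = V) (hsV : conjSub V s = U) {q v : G}
    (hq : q ∈ S.P) (hv : v ∈ V) : ⁅s * q * s⁻¹, v⁆ ∈ U := by
  have h1 := S.comm_mem hq (S.nbr_le_P hU (S.swap_conj hsU hsV hv).2)
  have h2 := (S.swap_conj hsU hsV h1).1
  have e : ⁅s * q * s⁻¹, v⁆ = s * ⁅q, s⁻¹ * v * s⁆ * s⁻¹ := by simp only [commutatorElement_def]; group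
  rwa [e]

theorem low_fix (hU : Nbr V Q U) {s : G} (hsV : conjSub V s = U) {q u : G} (hq : q ∈ S.P) (hu : u ∈ U) :
    (s * q * s⁻¹) * u = u * (s * q * s⁻¹) := by
  rw [← hsV] at hu
  obtain ⟨v, hv, rfl⟩ := hu
  show s * q * s⁻¹ * (s * v * s⁻¹) = s * v * s⁻¹ * (s * q * s⁻¹)
  calc s * q * s⁻¹ * (s * v * s⁻¹) = s * (q * v) * s⁻¹ := by group
    _ = s * (v * q) * s⁻¹ := by rw [S.P_comm hq hv]
    _ = _ := by group

/-- For a translation moving `U` there is an opposite translation inverting it. -/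
theorem exists_inverse (hU : Nbr V Q U) {s : G} (hsU : conjSub U s = V) (hsV : conjSub V s = U)
    {p : G} (hp : p ∈ S.P) {u₀ : G} (hu₀ : u₀ ∈ U) (hne : p * u₀ ≠ u₀ * p) :
    ∃ q ∈ S.P, ∀ u ∈ U, ⁅s * q * s⁻¹, ⁅u, p⁆⁆ = u := by
  have hu₀1 : u₀ ≠ 1 := fun h => hne (by simp [h])
  obtain ⟨⟨x, hx⟩, -, -⟩ := id hU
  set T := conjSub U p with hT
  have hTne : T ≠ U := by
    intro h
    apply hne
    have h1 : p * u₀ * p⁻¹ ∈ U := h ▸ conj_mem_conjSub p hu₀
    have h2 : ⁅p, u₀⁆ ∈ U ⊓ V := ⟨U.mul_mem h1 (U.inv_mem hu₀), S.comm_mem hp (S.nbr_le_P hU hu₀)⟩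
    rw [S.nbr_inf hU, mem_bot] at h2
    exact commutatorElement_eq_one_iff_mul_comm.1 h2
  set T' := conjSub T s⁻¹ with hT'
  have hTW : T ≤ V ⊔ U :=
    (conjSub_mono (le_sup_right : U ≤ V ⊔ U) p).trans (conjSub_eq_iff.2 (S.P_le_norm_sup hU hp)).le
  have hsW : conjSub (V ⊔ U) s⁻¹ = V ⊔ U := by
    have h1 : conjSub U s⁻¹ = V := by rw [← hsV, conjSub_conjSub, inv_mul_cancel, conjSub_one]
    have h2 : conjSub V s⁻¹ = U := by rw [← hsU, conjSub_conjSub, inv_mul_cancel, conjSub_one]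
    rw [conjSub, Subgroup.map_sup]
    show conjSub V s⁻¹ ⊔ conjSub U s⁻¹ = _
    rw [h1, h2, sup_comm]
  have hw : s⁻¹ * (p * u₀ * p⁻¹) * s⁻¹⁻¹ ∈ T' := conj_mem_conjSub s⁻¹ (conj_mem_conjSub p hu₀)
  have hT'eq : T' = conjSub V (s⁻¹ * (p * x)) := by rw [hT', hT, hx, conjSub_conjSub, conjSub_conjSub, mul_assoc]
  have hw1 : s⁻¹ * (p * u₀ * p⁻¹) * s⁻¹⁻¹ ≠ 1 := by
    intro h
    apply hu₀1
    have := congrArg (fun z => p⁻¹ * (s * z * s⁻¹) * p) h
    simpa [mul_assoc] using this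
  obtain ⟨p₀, hp₀, hT'p⟩ : ∃ p₀ ∈ S.P, T' = conjSub U p₀ := by
    rw [hT'eq]
    refine (S.conj_in_W hU (by rw [← hT'eq]; exact hw) ?_ hw1).resolve_left ?_
    · rw [← hsW]
      exact conj_mem_conjSub s⁻¹ (hTW (conj_mem_conjSub p hu₀))
    · intro h
      apply hTne
      have := congrArg (conjSub · s) (hT'eq.trans h)
      simp only [hT', conjSub_conjSub, mul_inv_cancel, conjSub_one] at this
      rw [this, hsV]
  refine ⟨p₀⁻¹, inv_mem hp₀, fun u hu => ?_⟩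
  set c := s * p₀⁻¹ * s⁻¹ with hc
  have hcT : conjSub T c = V := by
    have h : conjSub T' p₀⁻¹ = U := by rw [hT'p, conjSub_conjSub, inv_mul_cancel, conjSub_one]
    have := congrArg (conjSub · s) h
    simp only [hT', conjSub_conjSub, hsU] at this
    rw [← this, hc, mul_assoc]
  have hw' : ⁅u, p⁆ ∈ V := S.comm_mem (S.nbr_le_P hU hu) hp
  have h1 : c * (p * u * p⁻¹) * c⁻¹ ∈ V := hcT ▸ conj_mem_conjSub c (conj_mem_conjSub p hu)
  have h2 : ⁅c, ⁅u, p⁆⁆ ∈ U := S.low_mem hU hsU hsV (inv_mem hp₀) hw'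
  have hcu : c * u * c⁻¹ = u := by rw [hc, S.low_fix hU hsV (inv_mem hp₀) hu, mul_inv_cancel_right]
  rw [Setup.mul_of_comm (a := p) (b := u), S.comm_self hw'] at h1
  have h3 : c * (⁅u, p⁆ * u) * c⁻¹ = ⁅c, ⁅u, p⁆⁆ * u * ⁅u, p⁆ := by
    calc c * (⁅u, p⁆ * u) * c⁻¹ = (c * ⁅u, p⁆ * c⁻¹) * (c * u * c⁻¹) := by group
      _ = ⁅c, ⁅u, p⁆⁆ * ⁅u, p⁆ * u := by rw [Setup.mul_of_comm (a := c) (b := ⁅u, p⁆), hcu]
      _ = _ := by rw [mul_assoc, ← S.nbr_commV hU hu hw', mul_assoc]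
  rw [h3] at h1
  have h4 : ⁅c, ⁅u, p⁆⁆ * u ∈ U ⊓ V := by
    refine ⟨U.mul_mem h2 hu, ?_⟩
    have := V.mul_mem h1 (V.inv_mem hw')
    rwa [mul_inv_cancel_right] at this
  rw [S.nbr_inf hU, mem_bot] at h4
  exact (eq_inv_of_mul_eq_one_left h4).trans (S.nbr_inv hU hu)

/-- For an opposite translation moving `V` there is a translation it inverts. -/
theorem exists_inverse' (hU : Nbr V Q U) {s : G} (hsU : conjSub U s = V) (hsV : conjSub V s = U)
    {q : G} (hq : q ∈ S.P) {v₀ : G} (hv₀ : v₀ ∈ V) (hne : ⁅s * q * s⁻¹, v₀⁆ ≠ 1) :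
    ∃ p ∈ S.P, ∀ u ∈ U, ⁅s * q * s⁻¹, ⁅u, p⁆⁆ = u := by
  set c := s * q * s⁻¹ with hc
  have hv₀1 : v₀ ≠ 1 := fun h => hne (by simp [h])
  have hcu : ∀ u ∈ U, c * u * c⁻¹ = u := fun u hu => by
    rw [hc, S.low_fix hU hsV hq hu, mul_inv_cancel_right]
  have hTne : conjSub V c⁻¹ ≠ V := by
    intro h
    have hcn : c ∈ normalizer (V : Set G) := by simpa using inv_mem (conjSub_eq_iff.1 h)
    have h2 : ⁅c, v₀⁆ ∈ U ⊓ V :=
      ⟨S.low_mem hU hsU hsV hq hv₀, V.mul_mem (S.conjV hcn hv₀) (V.inv_mem hv₀)⟩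
    rw [S.nbr_inf hU, mem_bot] at h2
    exact hne h2
  have hcW : c * v₀ * c⁻¹ ∈ V ⊔ U := by
    rw [Setup.mul_of_comm]
    exact mul_mem ((le_sup_right : U ≤ V ⊔ U) (S.low_mem hU hsU hsV hq hv₀)) ((le_sup_left : V ≤ V ⊔ U) hv₀)
  obtain ⟨p, hp, hT⟩ : ∃ p ∈ S.P, conjSub V c⁻¹ = conjSub U p := by
    have hv' : c⁻¹ * v₀ * c⁻¹⁻¹ ∈ conjSub V c⁻¹ := conj_mem_conjSub c⁻¹ hv₀
    refine (S.conj_in_W hU hv' ?_ (fun h => hv₀1 (by
      have := congrArg (fun z => c * z * c⁻¹) h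
      simpa [mul_assoc] using this))).resolve_left hTne
    have hl := S.low_mem hU hsU hsV (inv_mem hq) hv₀
    rw [show s * q⁻¹ * s⁻¹ = c⁻¹ by rw [hc]; group] at hl
    rw [Setup.mul_of_comm]
    exact mul_mem ((le_sup_right : U ≤ V ⊔ U) hl) ((le_sup_left : V ≤ V ⊔ U) hv₀)
  refine ⟨p, hp, fun u hu => ?_⟩
  have hw' : ⁅u, p⁆ ∈ V := S.comm_mem (S.nbr_le_P hU hu) hp
  have hcT : conjSub (conjSub U p) c = V := by rw [← hT, conjSub_conjSub, mul_inv_cancel, conjSub_one]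
  have h1 : c * (p * u * p⁻¹) * c⁻¹ ∈ V := hcT ▸ conj_mem_conjSub c (conj_mem_conjSub p hu)
  have h2 : ⁅c, ⁅u, p⁆⁆ ∈ U := S.low_mem hU hsU hsV hq hw'
  rw [Setup.mul_of_comm (a := p) (b := u), S.comm_self hw'] at h1
  have h3 : c * (⁅u, p⁆ * u) * c⁻¹ = ⁅c, ⁅u, p⁆⁆ * u * ⁅u, p⁆ := by
    calc c * (⁅u, p⁆ * u) * c⁻¹ = (c * ⁅u, p⁆ * c⁻¹) * (c * u * c⁻¹) := by group
      _ = ⁅c, ⁅u, p⁆⁆ * ⁅u, p⁆ * u := by rw [Setup.mul_of_comm (a := c) (b := ⁅u, p⁆), hcu u hu]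
      _ = _ := by rw [mul_assoc, ← S.nbr_commV hU hu hw', mul_assoc]
  rw [h3] at h1
  have h4 : ⁅c, ⁅u, p⁆⁆ * u ∈ U ⊓ V := by
    refine ⟨U.mul_mem h2 hu, ?_⟩
    have := V.mul_mem h1 (V.inv_mem hw')
    rwa [mul_inv_cancel_right] at this
  rw [S.nbr_inf hU, mem_bot] at h4
  exact (eq_inv_of_mul_eq_one_left h4).trans (S.nbr_inv hU hu)

/-- The coordinates turning both translation groups into the scalars of a field. -/
theorem exists_coordinates (hU : Nbr V Q U) {s : G} (hsU : conjSub U s = V) (hsV : conjSub V s = U) :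
    ∃ (n : ℕ) (J : Submodule (ZMod 2) (Matrix (Fin n) (Fin n) (ZMod 2))) (δ ε : (Fin n → ZMod 2) → G),
      0 < n ∧ Nat.card ↥V = 2 ^ n ∧ SpreadField.IsSpread J ∧
      (∀ x, δ x ∈ V) ∧ (∀ x, ε x ∈ U) ∧ Function.Injective δ ∧ Function.Injective ε ∧
      (∀ v ∈ V, ∃ x, δ x = v) ∧ (∀ u ∈ U, ∃ x, ε x = u) ∧
      (∀ x y, δ (x + y) = δ x * δ y) ∧ (∀ x y, ε (x + y) = ε x * ε y) ∧
      (∀ p ∈ S.P, ∃ M ∈ J, ∀ x, ⁅p, ε x⁆ = δ (Matrix.mulVec M x)) ∧
      (∀ M ∈ J, ∃ p ∈ S.P, ∀ x, ⁅p, ε x⁆ = δ (Matrix.mulVec M x)) ∧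
      (∀ q ∈ S.P, ∃ M ∈ J, ∀ x, ⁅s * q * s⁻¹, δ x⁆ = ε (Matrix.mulVec M x)) ∧
      (∀ M ∈ J, ∃ q ∈ S.P, ∀ x, ⁅s * q * s⁻¹, δ x⁆ = ε (Matrix.mulVec M x)) := by
  obtain ⟨n, ε, hεU, hεadd, hεinj, hεsurj, hcard⟩ :=
    exists_coord U (fun a ha b hb => S.nbr_comm hU ha hb) fun a ha => S.nbr_sq hU ha
  obtain ⟨u₀, hu₀, hu₀1⟩ := S.nbr_ne_bot hU
  obtain ⟨U', hU', hne'⟩ := S.exists_partner hU
  obtain ⟨p₀, hp₀U, hp₀1⟩ := S.nbr_ne_bot hU'
  have hp₀ : p₀ ∈ S.P := S.nbr_le_P hU' hp₀U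
  have hp₀ne : p₀ * u₀ ≠ u₀ * p₀ := Ne.symm (hne' u₀ hu₀ hu₀1 p₀ hp₀U hp₀1)
  have hεP : ∀ x, ε x ∈ S.P := fun x => S.nbr_le_P hU (hεU x)
  set δ : (Fin n → ZMod 2) → G := fun x => ⁅p₀, ε x⁆ with hδdef
  have hδV : ∀ x, δ x ∈ V := fun x => S.comm_mem hp₀ (hεP x)
  have hδadd : ∀ x y, δ (x + y) = δ x * δ y := fun x y => by
    simp only [hδdef, hεadd]; exact S.comm_mul_right (hεP x) (hεP y) hp₀
  have hε0 : ε 0 = 1 := by
    have := hεadd 0 0
    rw [add_zero] at this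
    exact mul_left_cancel (this.symm.trans (mul_one _).symm)
  have hεU1 : ∀ x, ε x = 1 → x = 0 := fun x h => hεinj (h.trans hε0.symm)
  have hδsurj : ∀ v ∈ V, ∃ x, δ x = v := fun v hv => by
    obtain ⟨u, hu, h⟩ := S.comm_surj' hU hp₀ hu₀ hp₀ne hv
    obtain ⟨x, rfl⟩ := hεsurj u hu
    exact ⟨x, (S.comm_self (h ▸ hv)).trans h⟩
  have hδinj : Function.Injective δ := by
    let f : (Fin n → ZMod 2) → ↥V := fun x => ⟨δ x, hδV x⟩
    have hsurj : Function.Surjective f := fun v => by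
      obtain ⟨x, hx⟩ := hδsurj v v.2; exact ⟨x, Subtype.ext hx⟩
    have hbij := (Nat.bijective_iff_surjective_and_card f).2 ⟨hsurj, by
      rw [← S.nbr_card hU, hcard, Nat.card_fun, Nat.card_zmod, Nat.card_fin]⟩
    exact fun x y h => hbij.1 (Subtype.ext h)
  have hδ0 : δ 0 = 1 := by simp [hδdef, hε0]
  -- matrices of the translations
  have hA : ∀ p ∈ S.P, ∃ M : Matrix (Fin n) (Fin n) (ZMod 2), ∀ x, δ (M.mulVec x) = ⁅p, ε x⁆ := fun p hp =>
    exists_matrix hδinj hδadd _ (fun x => hδsurj _ (S.comm_mem hp (hεP x)))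
      fun x y => by rw [hεadd]; exact S.comm_mul_right (hεP x) (hεP y) hp
  have hB : ∀ q ∈ S.P, ∃ N : Matrix (Fin n) (Fin n) (ZMod 2), ∀ x, ε (N.mulVec x) = ⁅s * q * s⁻¹, δ x⁆ :=
    fun q hq => exists_matrix hεinj hεadd _ (fun x => hεsurj _ (S.low_mem hU hsU hsV hq (hδV x)))
      fun x y => by
        have h1 : ∀ v ∈ V, ⁅s * q * s⁻¹, v⁆ = s * ⁅q, s⁻¹ * v * s⁆ * s⁻¹ := fun v _ => by
          simp only [commutatorElement_def]; group
        have hm : ∀ v ∈ V, s⁻¹ * v * s ∈ S.P := fun v hv => S.nbr_le_P hU (S.swap_conj hsU hsV hv).2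
        rw [hδadd, h1 _ (mul_mem (hδV x) (hδV y)), h1 _ (hδV x), h1 _ (hδV y),
          show s⁻¹ * (δ x * δ y) * s = s⁻¹ * δ x * s * (s⁻¹ * δ y * s) by group,
          S.comm_mul_right (hm _ (hδV x)) (hm _ (hδV y)) hq]
        group
  choose MA hMA using hA
  choose MB hMB using hB
  have hMA_uniq : ∀ {p} (hp : p ∈ S.P) {M : Matrix (Fin n) (Fin n) (ZMod 2)},
      (∀ x, δ (M.mulVec x) = ⁅p, ε x⁆) → MA p hp = M := fun hp M hM =>
    Matrix.toLin'.injective (LinearMap.ext fun x => hδinj ((hMA _ hp x).trans (hM x).symm))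
  -- the two sets
  let J : Submodule (ZMod 2) (Matrix (Fin n) (Fin n) (ZMod 2)) :=
    { carrier := {M | ∃ p ∈ S.P, ∀ x, ⁅p, ε x⁆ = δ (M.mulVec x)}
      zero_mem' := ⟨1, one_mem _, fun x => by rw [commutatorElement_one_left, Matrix.zero_mulVec, hδ0]⟩
      add_mem' := fun {M N} ⟨p, hp, hM⟩ ⟨q, hq, hN⟩ => ⟨p * q, mul_mem hp hq, fun x => by
        rw [S.comm_mul_left hp hq (hεP x), hM, hN, Matrix.add_mulVec, hδadd]⟩
      smul_mem' := fun c M hM => by
        fin_cases c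
        · exact ⟨1, one_mem _, fun x => by
            rw [commutatorElement_one_left]
            exact (hδ0.symm.trans (by congr 1; exact ((congrArg (Matrix.mulVec · x) (zero_smul (ZMod 2) M)).trans (Matrix.zero_mulVec x)).symm))⟩
        · obtain ⟨p, hp, h⟩ := hM
          exact ⟨p, hp, fun x => (h x).trans (congrArg δ (congrArg (Matrix.mulVec · x) (one_smul (ZMod 2) M).symm))⟩ }
  have hmoves : ∀ {p} (hp : p ∈ S.P), MA p hp ≠ 0 → ∃ u ∈ U, p * u ≠ u * p := by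
    intro p hp h0
    by_contra hcon
    push Not at hcon
    refine h0 (hMA_uniq hp fun x => ?_)
    rw [Matrix.zero_mulVec, hδ0, commutatorElement_eq_one_iff_mul_comm.2 (hcon _ (hεU x))]
  -- products of inverse translations
  have hinvmat : ∀ {p q} (hp : p ∈ S.P) (hq : q ∈ S.P), (∀ u ∈ U, ⁅s * q * s⁻¹, ⁅u, p⁆⁆ = u) →
      MB q hq * MA p hp = 1 ∧ MA p hp * MB q hq = 1 := by
    intro p q hp hq h
    have h1 : MB q hq * MA p hp = 1 := by
      refine Matrix.toLin'.injective (LinearMap.ext fun x => hεinj ?_)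
      rw [Matrix.toLin'_apply, Matrix.toLin'_apply, Matrix.one_mulVec, ← Matrix.mulVec_mulVec, hMB, hMA,
        S.comm_self (S.comm_mem (hεP x) hp), h _ (hεU x)]
    exact ⟨h1, mul_eq_one_comm.1 h1⟩
  let JB : Set (Matrix (Fin n) (Fin n) (ZMod 2)) := {N | ∃ q, ∃ hq : q ∈ S.P, MB q hq = N}
  have hJBadd : ∀ {N N'}, N ∈ JB → N' ∈ JB → N + N' ∈ JB := by
    rintro _ _ ⟨q, hq, rfl⟩ ⟨q', hq', rfl⟩
    refine ⟨q * q', mul_mem hq hq', Matrix.toLin'.injective (LinearMap.ext fun x => hεinj ?_)⟩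
    rw [Matrix.toLin'_apply, Matrix.toLin'_apply, hMB, Matrix.add_mulVec, hεadd, hMB, hMB]
    have h1 : ∀ r : G, ⁅s * r * s⁻¹, δ x⁆ = s * ⁅r, s⁻¹ * δ x * s⁆ * s⁻¹ := fun r => by
      simp only [commutatorElement_def]; group
    rw [h1, h1, h1, S.comm_mul_left hq hq' (S.nbr_le_P hU (S.swap_conj hsU hsV (hδV x)).2)]
    group
  have hJinv : ∀ M ∈ J, M ≠ 0 → ∃ N ∈ JB, N * M = 1 ∧ M * N = 1 := by
    rintro M ⟨p, hp, hM⟩ h0
    have hMeq : MA p hp = M := hMA_uniq hp fun x => (hM x).symm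
    obtain ⟨u, hu, hne⟩ := hmoves hp (hMeq ▸ h0)
    obtain ⟨q, hq, hq'⟩ := S.exists_inverse hU hsU hsV hp hu hne
    exact ⟨_, ⟨q, hq, rfl⟩, hMeq ▸ (hinvmat hp hq hq').1, hMeq ▸ (hinvmat hp hq hq').2⟩
  have hJBinv : ∀ N ∈ JB, N ≠ 0 → ∃ M ∈ J, N * M = 1 ∧ M * N = 1 := by
    rintro N ⟨q, hq, rfl⟩ h0
    obtain ⟨x, hx⟩ : ∃ x, ⁅s * q * s⁻¹, δ x⁆ ≠ 1 := by
      by_contra hcon
      push Not at hcon
      refine h0 (Matrix.toLin'.injective (LinearMap.ext fun x => hεinj ?_))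
      rw [Matrix.toLin'_apply, hMB, hcon, map_zero, LinearMap.zero_apply, hε0]
    obtain ⟨p, hp, hp'⟩ := S.exists_inverse' hU hsU hsV hq (hδV x) hx
    exact ⟨MA p hp, ⟨p, hp, fun y => (hMA p hp y).symm⟩, (hinvmat hp hq hp').1, (hinvmat hp hq hp').2⟩
  have hn : 0 < n := by
    rcases Nat.eq_zero_or_pos n with h | h
    · subst h
      obtain ⟨x, hx⟩ := hεsurj u₀ hu₀
      exact absurd (by rw [← hx, Subsingleton.elim x 0, hε0]) hu₀1
    · exact h
  have : Nonempty (Fin n) := ⟨⟨0, hn⟩⟩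
  have h1J : (1 : Matrix (Fin n) (Fin n) (ZMod 2)) ∈ J := ⟨p₀, hp₀, fun x => by rw [Matrix.one_mulVec]⟩
  have hcancel : ∀ {a b c : Matrix (Fin n) (Fin n) (ZMod 2)}, b * a = 1 → a * c = 1 → b = c := fun {a b c} h h' => by
    rw [← mul_one b, ← h', ← mul_assoc, h, one_mul]
  have h1B : (1 : Matrix (Fin n) (Fin n) (ZMod 2)) ∈ JB := by
    obtain ⟨N, hN, h, -⟩ := hJinv 1 h1J one_ne_zero
    rw [mul_one] at h
    rw [h] at hN
    exact hN
  have hsub : ∀ F ∈ J, F ≠ 0 → ∃ Fi ∈ J, F * Fi = 1 ∧ Fi * F = 1 := by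
    intro F hF hF0
    by_cases h1 : 1 + F = 0
    · have : F = 1 := (CharTwo.add_eq_zero.1 h1).symm
      exact ⟨1, h1J, by rw [this, one_mul], by rw [this, one_mul]⟩
    obtain ⟨Fi, -, hFi, hFi'⟩ := hJinv F hF hF0
    obtain ⟨T, hTB, hT, hT'⟩ := hJinv (1 + F) (J.add_mem h1J hF) h1
    have hy : 1 + T = F * T := by
      calc 1 + T = (1 + F) * T + T := by rw [hT']
        _ = F * T + (T + T) := by noncomm_ring
        _ = F * T := by rw [CharTwo.add_self_eq_zero, add_zero]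
    have hz : (F * T) * ((1 + F) * Fi) = 1 := by
      calc (F * T) * ((1 + F) * Fi) = F * (T * (1 + F)) * Fi := by noncomm_ring
        _ = 1 := by rw [hT, mul_one, hFi']
    obtain ⟨M, hM, -, hM'⟩ := hJBinv (1 + T) (hJBadd h1B hTB) (fun h => by
      rw [hy.symm.trans h, zero_mul] at hz; exact zero_ne_one hz)
    rw [hy] at hM'
    have h2 : M = (1 + F) * Fi := hcancel hM' hz
    refine ⟨Fi, ?_, hFi', hFi⟩
    have h3 : Fi = (1 + F) * Fi + 1 := by
      rw [add_mul, one_mul, hFi', add_assoc, CharTwo.add_self_eq_zero, add_zero]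
    rw [h3, ← h2]
    exact J.add_mem hM h1J
  have hBJ : ∀ N ∈ JB, N ∈ J := by
    intro N hN
    by_cases h0 : N = 0
    · rw [h0]; exact J.zero_mem
    obtain ⟨M, hM, h, h'⟩ := hJBinv N hN h0
    obtain ⟨Mi, hMi, hMM, -⟩ := hsub M hM (fun hm => by rw [hm, zero_mul] at h'; exact zero_ne_one h')
    rwa [hcancel h hMM]
  have hJB : ∀ M ∈ J, M ∈ JB := by
    intro M hM
    by_cases h0 : M = 0
    · refine ⟨1, one_mem _, Matrix.toLin'.injective (LinearMap.ext fun x => hεinj ?_)⟩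
      rw [h0, Matrix.toLin'_apply, Matrix.toLin'_apply, hMB, Matrix.zero_mulVec, hε0]
      simp [commutatorElement_def]
    obtain ⟨Mi, hMi, h, h'⟩ := hsub M hM h0
    obtain ⟨N, hN, hN', -⟩ := hJinv Mi hMi (fun hm => by rw [hm, mul_zero] at h; exact zero_ne_one h)
    rwa [← hcancel hN' h']
  have hspread : SpreadField.IsSpread J := by
    refine ⟨h1J, fun M hM h0 => ?_, fun M hM y hy => ?_, ?_⟩
    · obtain ⟨Mi, -, h, h'⟩ := hsub M hM h0
      exact ⟨⟨M, Mi, h, h'⟩, rfl⟩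
    · obtain ⟨Mi, hMi, h, h'⟩ := hsub M hM (fun hm => by rw [hm, zero_mul] at hy; exact zero_ne_one hy)
      rwa [← hcancel h' hy]
    · obtain ⟨e, he⟩ := hεsurj u₀ hu₀
      have he0 : ε e ≠ 1 := he ▸ hu₀1
      let f : ↥J →ₗ[ZMod 2] (Fin n → ZMod 2) :=
        { toFun := fun M => M.1.mulVec e
          map_add' := fun M N => Matrix.add_mulVec _ _ _
          map_smul' := fun c M => Matrix.smul_mulVec c _ _ }
      have hf : Function.Bijective f := by
        constructor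
        · rw [← LinearMap.ker_eq_bot, LinearMap.ker_eq_bot']
          intro M hM
          by_contra h0
          obtain ⟨Mi, -, -, h'⟩ := hsub M.1 M.2 (fun h => h0 (Subtype.ext h))
          have : e = 0 := by
            rw [← Matrix.one_mulVec e, ← h', ← Matrix.mulVec_mulVec, show M.1.mulVec e = 0 from hM, Matrix.mulVec_zero]
          exact he0 (by rw [this, hε0])
        · intro y
          obtain ⟨p, hp, hpy⟩ := S.comm_surj hU (hεU e) he0 (hδV y)
          refine ⟨⟨MA p hp, p, hp, fun x => (hMA p hp x).symm⟩, hδinj ?_⟩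
          show δ ((MA p hp).mulVec e) = δ y
          rw [hMA, S.comm_self (hpy ▸ hδV y), hpy]
      rw [(LinearEquiv.ofBijective f hf).finrank_eq, Module.finrank_pi, Fintype.card_fin]
  refine ⟨n, J, δ, ε, hn, by rw [← hcard, S.nbr_card hU], hspread, hδV, hεU, hδinj, hεinj, hδsurj, hεsurj,
    hδadd, hεadd, fun p hp => ⟨MA p hp, ⟨p, hp, fun x => (hMA p hp x).symm⟩, fun x => (hMA p hp x).symm⟩,
    fun M hM => hM, fun q hq => ⟨MB q hq, hBJ _ ⟨q, hq, rfl⟩, fun x => (hMB q hq x).symm⟩, fun M hM => ?_⟩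
  obtain ⟨q, hq, rfl⟩ := hJB M hM
  exact ⟨q, hq, fun x => (hMB q hq x).symm⟩

theorem quotient_sl_two (hU : Nbr V Q U) {s : G} (hsU : conjSub U s = V) (hsV : conjSub V s = U)
    (hN : ((centralizer ((V ⊔ U : Subgroup G) : Set G)).subgroupOf (S.P ⊔ conjSub S.P s)).Normal) :
    ∃ (F : Type) (_ : Field F) (_ : Fintype F), Fintype.card F = Nat.card ↥V ∧
      Nonempty ((↥(S.P ⊔ conjSub S.P s) ⧸ (centralizer ((V ⊔ U : Subgroup G) : Set G)).subgroupOf
        (S.P ⊔ conjSub S.P s)) ≃* Matrix.SpecialLinearGroup (Fin 2) F) := by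
  classical
  obtain ⟨n, J, δ, ε, hn, hcard, hJ, hδV, hεU, hδinj, hεinj, hδsurj, hεsurj, hδadd, hεadd,
    hA, hA', hB, hB'⟩ := S.exists_coordinates hU hsU hsV
  have : Nonempty (Fin n) := ⟨⟨0, hn⟩⟩
  let F : Subalgebra (ZMod 2) (Matrix (Fin n) (Fin n) (ZMod 2)) :=
    J.toSubalgebra hJ.one fun a b ha hb => (hJ.commute ha hb).2
  have hFmem : ∀ {a}, a ∈ F ↔ a ∈ J := fun {a} => Iff.rfl
  let _ : CommRing ↥F :=
    { (inferInstance : Ring ↥F) with mul_comm := fun a b => Subtype.ext (hJ.commute a.2 b.2).1 }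
  have : NoZeroDivisors ↥F := ⟨fun {a b} h => by
    by_cases ha : a = 0
    · exact Or.inl ha
    · refine Or.inr (Subtype.ext ?_)
      exact (hJ.unit _ a.2 fun h0 => ha (Subtype.ext h0)).mul_right_eq_zero.1 (congrArg Subtype.val h)⟩
  have : IsDomain ↥F := NoZeroDivisors.to_isDomain _
  let _ : Fintype ↥F := Fintype.ofFinite _
  let _ : Field ↥F := Fintype.fieldOfDomain _
  have hFfin : Module.finrank (ZMod 2) ↥F = n := by
    show Module.finrank (ZMod 2) ↥J = n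
    rw [hJ.card, Fintype.card_fin]
  have hFcard : Fintype.card ↥F = 2 ^ n := by
    rw [Module.card_eq_pow_finrank (K := ZMod 2), ZMod.card, hFfin]
  refine ⟨↥F, inferInstance, inferInstance, by rw [hFcard, hcard], ?_⟩
  let e : Fin n → ZMod 2 := Pi.single ⟨0, hn⟩ 1
  let z : ↥F →ₗ[ZMod 2] (Fin n → ZMod 2) :=
    { toFun := fun M => M.1.mulVec e
      map_add' := fun M N => Matrix.add_mulVec _ _ _
      map_smul' := fun c M => Matrix.smul_mulVec c _ _ }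
  have hz : Function.Bijective z := by
    have hinj : Function.Injective z := by
      rw [← LinearMap.ker_eq_bot, LinearMap.ker_eq_bot']
      intro M hM
      by_contra h0
      obtain ⟨u, hu⟩ := hJ.unit M.1 M.2 (fun h => h0 (Subtype.ext h))
      have : e = 0 := by
        rw [← Matrix.one_mulVec e, ← u.inv_mul, hu, ← Matrix.mulVec_mulVec,
          show M.1.mulVec e = 0 from hM, Matrix.mulVec_zero]
      simpa [e] using congrFun this ⟨0, hn⟩
    exact ⟨hinj, (LinearMap.injective_iff_surjective_of_finrank_eq_finrank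
      (by rw [hFfin, Module.finrank_pi, Fintype.card_fin])).1 hinj⟩
  have hzmul : ∀ (M x : ↥F), z (M * x) = M.1.mulVec (z x) := fun M x => by
    show (M.1 * x.1).mulVec e = _
    rw [← Matrix.mulVec_mulVec]; rfl
  set W := V ⊔ U with hW
  let E₀ : (Fin 2 → ↥F) → ↥W := fun a =>
    ⟨δ (z (a 0)) * ε (z (a 1)), mul_mem_sup (hδV _) (hεU _)⟩
  have hE₀add : ∀ a b, E₀ (a + b) = E₀ a * E₀ b := fun a b => Subtype.ext (by
    show δ (z ((a + b) 0)) * ε (z ((a + b) 1)) = δ (z (a 0)) * ε (z (a 1)) * (δ (z (b 0)) * ε (z (b 1)))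
    rw [Pi.add_apply, Pi.add_apply, map_add, map_add, hδadd, hεadd]
    have h := S.nbr_commV hU (hεU (z (a 1))) (hδV (z (b 0)))
    calc δ (z (a 0)) * δ (z (b 0)) * (ε (z (a 1)) * ε (z (b 1)))
        = δ (z (a 0)) * (δ (z (b 0)) * ε (z (a 1))) * ε (z (b 1)) := by group
      _ = δ (z (a 0)) * (ε (z (a 1)) * δ (z (b 0))) * ε (z (b 1)) := by rw [h]
      _ = _ := by group)
  have hE₀bij : Function.Bijective E₀ := by
    constructor
    · intro a b h
      have h' : δ (z (a 0)) * ε (z (a 1)) = δ (z (b 0)) * ε (z (b 1)) := congrArg Subtype.val h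
      have hm : ε (z (a 1)) * (ε (z (b 1)))⁻¹ ∈ U ⊓ V := by
        refine ⟨U.mul_mem (hεU _) (U.inv_mem (hεU _)), ?_⟩
        have : ε (z (a 1)) * (ε (z (b 1)))⁻¹ = (δ (z (a 0)))⁻¹ * δ (z (b 0)) := by
          rw [eq_inv_mul_iff_mul_eq, ← mul_assoc, h', mul_inv_cancel_right]
        rw [this]; exact V.mul_mem (V.inv_mem (hδV _)) (hδV _)
      rw [S.nbr_inf hU, mem_bot, mul_inv_eq_one] at hm
      rw [hm, mul_left_inj] at h'
      have h0 := hz.1 (hδinj h')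
      have h1 := hz.1 (hεinj hm)
      funext i
      fin_cases i
      · exact h0
      · exact h1
    · rintro ⟨w, hw⟩
      obtain ⟨v, hv, u, hu, rfl⟩ := (S.mem_sup_iff hU).1 hw
      obtain ⟨x, rfl⟩ := hδsurj v hv
      obtain ⟨y, rfl⟩ := hεsurj u hu
      obtain ⟨a, rfl⟩ := hz.2 x
      obtain ⟨b, rfl⟩ := hz.2 y
      exact ⟨![a, b], Subtype.ext (by simp [E₀])⟩
  let E : (Fin 2 → ↥F) ≃ ↥W := Equiv.ofBijective E₀ hE₀bij
  have hEadd : ∀ a b, E (a + b) = E a * E b := hE₀add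
  let act : Matrix.SpecialLinearGroup (Fin 2) ↥F → MulAut ↥W := fun A =>
    { toFun := fun w => E ((A : Matrix (Fin 2) (Fin 2) ↥F).mulVec (E.symm w))
      invFun := fun w => E (((A⁻¹ : Matrix.SpecialLinearGroup (Fin 2) ↥F) : Matrix (Fin 2) (Fin 2) ↥F).mulVec (E.symm w))
      left_inv := fun w => by
        show E (Matrix.mulVec _ (E.symm (E _))) = w
        rw [E.symm_apply_apply, Matrix.mulVec_mulVec, ← Matrix.SpecialLinearGroup.coe_mul, inv_mul_cancel,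
          Matrix.SpecialLinearGroup.coe_one, Matrix.one_mulVec, E.apply_symm_apply]
      right_inv := fun w => by
        show E (Matrix.mulVec _ (E.symm (E _))) = w
        rw [E.symm_apply_apply, Matrix.mulVec_mulVec, ← Matrix.SpecialLinearGroup.coe_mul, mul_inv_cancel,
          Matrix.SpecialLinearGroup.coe_one, Matrix.one_mulVec, E.apply_symm_apply]
      map_mul' := fun w w' => by
        show E _ = E _ * E _
        rw [← hEadd, ← Matrix.mulVec_add]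
        congr 2
        apply E.injective
        rw [hEadd, E.apply_symm_apply, E.apply_symm_apply, E.apply_symm_apply] }
  let ρ : Matrix.SpecialLinearGroup (Fin 2) ↥F →* MulAut ↥W := MonoidHom.mk' act fun A B => by
    apply MulEquiv.ext
    intro w
    show E _ = E (Matrix.mulVec _ (E.symm (E _)))
    rw [E.symm_apply_apply, Matrix.mulVec_mulVec, ← Matrix.SpecialLinearGroup.coe_mul]
  have hρinj : Function.Injective ρ := by
    rw [injective_iff_map_eq_one]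
    intro A hA
    refine Subtype.ext (Matrix.ext_iff_mulVec.2 fun a => ?_)
    have h := DFunLike.congr_fun hA (E a)
    have h' : E ((A : Matrix (Fin 2) (Fin 2) ↥F).mulVec (E.symm (E a))) = E a := h
    rw [E.symm_apply_apply] at h'
    rw [Matrix.SpecialLinearGroup.coe_one, Matrix.one_mulVec]
    exact E.injective h'
  have hρapply : ∀ A a, ρ A (E a) = E ((A : Matrix (Fin 2) (Fin 2) ↥F).mulVec a) := fun A a => by
    show E (Matrix.mulVec _ (E.symm (E a))) = _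
    rw [E.symm_apply_apply]
  have hPW : S.P ≤ normalizer (W : Set G) := S.P_le_norm_sup hU
  have hsW : conjSub W s = W := by
    rw [hW, conjSub, Subgroup.map_sup]
    show conjSub V s ⊔ conjSub U s = _
    rw [hsU, hsV, sup_comm]
  have hP1W : conjSub S.P s ≤ normalizer (W : Set G) := by
    rintro _ ⟨q, hq, rfl⟩
    have hs' : s ∈ normalizer (W : Set G) := conjSub_eq_iff.1 hsW
    exact mul_mem (mul_mem hs' (hPW hq)) (inv_mem hs')
  set H := S.P ⊔ conjSub S.P s with hH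
  have hHW : H ≤ normalizer (W : Set G) := sup_le hPW hP1W
  let φ : ↥H →* MulAut ↥W := W.normalizerMonoidHom.comp (inclusion hHW)
  have hφapply : ∀ (h : ↥H) (w : ↥W), ((φ h w : ↥W) : G) = h * w * (h : G)⁻¹ := fun h w => rfl
  have hup : ∀ (p : G) (hp : p ∈ S.P) (M : ↥F), (∀ x, ⁅p, ε x⁆ = δ (M.1.mulVec x)) →
      φ ⟨p, (le_sup_left : S.P ≤ H) hp⟩ = ρ (Matrix.SpecialLinearGroup.transvection (show (0 : Fin 2) ≠ 1 by decide) M) := by
    intro p hp M hM
    apply MulEquiv.ext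
    intro w
    obtain ⟨a, rfl⟩ := E.surjective w
    rw [hρapply]
    apply Subtype.ext
    rw [hφapply]
    show p * (δ (z (a 0)) * ε (z (a 1))) * p⁻¹ = δ (z (Matrix.mulVec _ a 0)) * ε (z (Matrix.mulVec _ a 1))
    have e0 : ((Matrix.SpecialLinearGroup.transvection (show (0 : Fin 2) ≠ 1 by decide) M :
        Matrix.SpecialLinearGroup (Fin 2) ↥F) : Matrix (Fin 2) (Fin 2) ↥F).mulVec a = ![a 0 + M * a 1, a 1] := by
      ext i
      fin_cases i <;> simp [Matrix.mulVec, dotProduct, Fin.sum_univ_two, Matrix.SpecialLinearGroup.transvection_coe]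
    rw [e0]
    show _ = δ (z (a 0 + M * a 1)) * ε (z (a 1))
    rw [map_add, hzmul, hδadd, ← hM]
    calc p * (δ (z (a 0)) * ε (z (a 1))) * p⁻¹ = (p * δ (z (a 0)) * p⁻¹) * (p * ε (z (a 1)) * p⁻¹) := by group
      _ = δ (z (a 0)) * (⁅p, ε (z (a 1))⁆ * ε (z (a 1))) := by
          rw [S.P_comm hp (hδV _), mul_inv_cancel_right, Setup.mul_of_comm]
      _ = _ := by group
  have hlow : ∀ (q : G) (hq : q ∈ S.P) (M : ↥F), (∀ x, ⁅s * q * s⁻¹, δ x⁆ = ε (M.1.mulVec x)) →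
      φ ⟨s * q * s⁻¹, (le_sup_right : conjSub S.P s ≤ H) (conj_mem_conjSub s hq)⟩ =
        ρ (Matrix.SpecialLinearGroup.transvection (show (1 : Fin 2) ≠ 0 by decide) M) := by
    intro q hq M hM
    apply MulEquiv.ext
    intro w
    obtain ⟨a, rfl⟩ := E.surjective w
    rw [hρapply]
    apply Subtype.ext
    rw [hφapply]
    set c := s * q * s⁻¹ with hc
    show c * (δ (z (a 0)) * ε (z (a 1))) * c⁻¹ = δ (z (Matrix.mulVec _ a 0)) * ε (z (Matrix.mulVec _ a 1))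
    have e0 : ((Matrix.SpecialLinearGroup.transvection (show (1 : Fin 2) ≠ 0 by decide) M :
        Matrix.SpecialLinearGroup (Fin 2) ↥F) : Matrix (Fin 2) (Fin 2) ↥F).mulVec a = ![a 0, M * a 0 + a 1] := by
      ext i
      fin_cases i <;> simp [Matrix.mulVec, dotProduct, Fin.sum_univ_two, Matrix.SpecialLinearGroup.transvection_coe]
    rw [e0]
    show _ = δ (z (a 0)) * ε (z (M * a 0 + a 1))
    rw [map_add, hzmul, hεadd, ← hM]
    have hl : ⁅c, δ (z (a 0))⁆ ∈ U := S.low_mem hU hsU hsV hq (hδV _)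
    calc c * (δ (z (a 0)) * ε (z (a 1))) * c⁻¹ = (c * δ (z (a 0)) * c⁻¹) * (c * ε (z (a 1)) * c⁻¹) := by group
      _ = ⁅c, δ (z (a 0))⁆ * δ (z (a 0)) * ε (z (a 1)) := by
          rw [Setup.mul_of_comm, S.low_fix hU hsV hq (hεU _), mul_inv_cancel_right]
      _ = _ := by rw [S.nbr_commV hU hl (hδV _)]; group
  have hrange : φ.range = ρ.range := by
    refine le_antisymm ?_ ?_
    · have htop : (⊤ : Subgroup ↥H) ≤ ρ.range.comap φ := by
        have hsup : (⊤ : Subgroup ↥H) = S.P.subgroupOf H ⊔ (conjSub S.P s).subgroupOf H := by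
          rw [← subgroupOf_sup le_sup_left le_sup_right]
          exact (subgroupOf_eq_top.2 le_rfl).symm
        rw [hsup]
        refine sup_le ?_ ?_
        · rintro ⟨p, hpH⟩ hp
          obtain ⟨M, hMJ, hM⟩ := hA p hp
          exact ⟨_, (hup p hp ⟨M, hMJ⟩ hM).symm⟩
        · rintro ⟨c, hcH⟩ hc'
          obtain ⟨q, hq, rfl⟩ := hc'
          obtain ⟨M, hMJ, hM⟩ := hB q hq
          exact ⟨_, (hlow q hq ⟨M, hMJ⟩ hM).symm⟩
      rintro _ ⟨h, rfl⟩
      exact htop (mem_top h)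
    · have htop : φ.range.comap ρ = ⊤ := by
        refine Cfsg.Agent.Classical.sl_subgroup_eq_top_of_transvection_mem _ ?_
        intro i j h c
        fin_cases i <;> fin_cases j
        · exact absurd rfl h
        · obtain ⟨p, hp, hM⟩ := hA' c.1 c.2
          exact ⟨_, hup p hp c hM⟩
        · obtain ⟨q, hq, hM⟩ := hB' c.1 c.2
          exact ⟨_, hlow q hq c hM⟩
        · exact absurd rfl h
      rintro _ ⟨A, rfl⟩
      exact (htop.ge (mem_top A) :)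
  have hker : φ.ker = (centralizer (W : Set G)).subgroupOf H := by
    rw [← MonoidHom.comap_ker, Subgroup.normalizerMonoidHom_ker]
    rfl
  exact ⟨(QuotientGroup.quotientMulEquivOfEq hker.symm).trans
    ((QuotientGroup.quotientKerEquivRange φ).trans ((MulEquiv.subgroupCongr hrange).trans
      (MonoidHom.ofInjective hρinj).symm))⟩

end Setup

end CfsgLib.TIWeak
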