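import Cfsg.Agent.Lib.Classif.TIWeak.Swap
import Cfsg.Agent.Lib.PGroup.Frattini

/-! Consequences of the interchanging element. -/

set_option autoImplicit false

namespace CfsgLib.TIWeak

open Subgroup CfsgLib.Classif
open scoped commutatorElement

variable {G : Type*} [Group G] [Finite G] {V Q : Subgroup G}

namespace Setup

variable (S : Setup V Q) {U : Subgroup G}
include S

theorem swap_mem {s x : G} (hs : conjSub V s = U) (hx : conjSub V x = U) :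
    x⁻¹ * s ∈ normalizer (V : Set G) := by
  refine conjSub_eq_iff.1 ?_
  rw [← conjSub_conjSub, hs, ← hx, conjSub_conjSub, inv_mul_cancel, conjSub_one]

theorem conjSub_eq_of_swap {A : Subgroup G} (hA : ∀ m ∈ normalizer (V : Set G), ∀ a ∈ A, m * a * m⁻¹ ∈ A)
    {s x : G} (hs : conjSub V s = U) (hx : conjSub V x = U) : conjSub A x = conjSub A s := by
  have hn := S.swap_mem hs hx
  have h1 : conjSub A (x⁻¹ * s) = A := by
    refine eq_of_le_of_card_ge ?_ (card_conjSub _ _).ge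
    rintro _ ⟨a, ha, rfl⟩
    exact hA _ hn a ha
  conv_lhs => rw [← h1]
  rw [conjSub_conjSub, mul_inv_cancel_left]

/-- `N(V)` is transitive on the involutions of `V`. -/
theorem transitive (hU : Nbr V Q U) {v w : G} (hv : v ∈ V) (hv1 : v ≠ 1) (hw : w ∈ V) (hw1 : w ≠ 1) :
    ∃ k ∈ normalizer (V : Set G), k * v * k⁻¹ = w := by
  obtain ⟨s, hsU, hsV⟩ := S.exists_swap hU
  have hu : s * v * s⁻¹ ∈ U := by rw [← hsV]; exact conj_mem_conjSub s hv
  have hu1 : s * v * s⁻¹ ≠ 1 := by simpa using hv1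
  set u := s * v * s⁻¹ with hudef
  have hw' : s⁻¹ * w * s ∈ U := by rw [← hsU] at hw; exact mem_conjSub_iff.1 hw
  have hw'1 : s⁻¹ * w * s ≠ 1 := fun h => hw1 (by
    calc w = s * (s⁻¹ * w * s) * s⁻¹ := by group
      _ = 1 := by rw [h]; group)
  set u₁ := s⁻¹ * w * s with hu₁
  have hv₁ : s⁻¹ * u₁ * s ∈ V := by rw [← hsV] at hw'; exact mem_conjSub_iff.1 hw'
  obtain ⟨p, hp, hpu⟩ := S.comm_surj hU hu hu1 hv₁
  have hc1 : ⁅p, u⁆ = s⁻¹ * u₁ * s := by rw [S.comm_self (hpu ▸ hv₁), hpu]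
  have hv' : s * u * s⁻¹ ∈ V := by rw [← hsU]; exact conj_mem_conjSub s hu
  obtain ⟨p', hp', hpu'⟩ := S.comm_surj hU hw' hw'1 hv'
  have hc2 : ⁅p', u₁⁆ = s * u * s⁻¹ := by rw [S.comm_self (hpu' ▸ hv'), hpu']
  refine ⟨s * (p'⁻¹ * s * p * s), ?_, ?_⟩
  · refine S.norm_of_conj_mem hv hv1 ?_
    suffices h : s * (p'⁻¹ * s * p * s) * v * (s * (p'⁻¹ * s * p * s))⁻¹ = w by rw [h]; exact hw
    calc s * (p'⁻¹ * s * p * s) * v * (s * (p'⁻¹ * s * p * s))⁻¹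
        = s * (p'⁻¹ * (s * (p * u * p⁻¹) * s⁻¹) * p') * s⁻¹ := by rw [hudef]; group
      _ = s * (p'⁻¹ * (u₁ * (s * u * s⁻¹)) * p') * s⁻¹ := by rw [Setup.mul_of_comm (a := p) (b := u), hc1]; group
      _ = s * (p'⁻¹ * (p' * u₁ * p'⁻¹) * p') * s⁻¹ := by
          rw [Setup.mul_of_comm (a := p') (b := u₁), hc2, S.nbr_commV hU hw' hv']
      _ = w := by rw [hu₁]; group
  · calc s * (p'⁻¹ * s * p * s) * v * (s * (p'⁻¹ * s * p * s))⁻¹
        = s * (p'⁻¹ * (s * (p * u * p⁻¹) * s⁻¹) * p') * s⁻¹ := by rw [hudef]; group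
      _ = s * (p'⁻¹ * (u₁ * (s * u * s⁻¹)) * p') * s⁻¹ := by rw [Setup.mul_of_comm (a := p) (b := u), hc1]; group
      _ = s * (p'⁻¹ * (p' * u₁ * p'⁻¹) * p') * s⁻¹ := by
          rw [Setup.mul_of_comm (a := p') (b := u₁), hc2, S.nbr_commV hU hw' hv']
      _ = w := by rw [hu₁]; group

theorem P_eq_Q (hU : Nbr V Q U) : S.P = Q := by
  refine le_antisymm inf_le_left (le_inf le_rfl fun q hq => mem_centralizer_iff.2 fun v hv => ?_)
  by_cases hv1 : v = 1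
  · simp [hv1]
  have hVb : V ≠ ⊥ := fun h => hv1 (mem_bot.1 (h ▸ (hv : v ∈ V)))
  obtain ⟨v₀, hv₀, hv₀1, hfix⟩ := pow_two_power_normal_fix S.V_two hVb Q S.Q_two
    (fun h hh a ha => S.conjV (S.Q_le hh) ha)
  obtain ⟨k, hk, hkv⟩ := S.transitive hU hv₀ hv₀1 hv hv1
  have h1 := hfix (k⁻¹ * q * k) (by simpa using S.Q_conj _ (inv_mem hk) q hq)
  rw [← hkv]
  calc k * v₀ * k⁻¹ * q = k * (v₀ * (k⁻¹ * q * k)) * k⁻¹ := by group
    _ = k * ((k⁻¹ * q * k) * v₀) * k⁻¹ := by rw [h1]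
    _ = q * (k * v₀ * k⁻¹) := by group

theorem center_eq (hU : Nbr V Q U) : (center ↥Q).map (Subgroup.subtype Q) = V := by
  refine le_antisymm ?_ fun v hv => ?_
  · rintro _ ⟨⟨z, hz⟩, hzc, rfl⟩
    refine S.center_P (by rw [S.P_eq_Q hU]; exact hz) fun p hp => ?_
    exact (congrArg Subtype.val (mem_center_iff.1 hzc ⟨p, inf_le_left (a := Q) hp⟩)).symm
  · refine ⟨⟨v, S.V_le_Q hv⟩, mem_center_iff.2 fun q => Subtype.ext ?_, rfl⟩
    have hq : (q : G) ∈ S.P := by rw [S.P_eq_Q hU]; exact q.2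
    exact S.P_comm hq hv

theorem commutator_eq (hU : Nbr V Q U) : (commutator ↥Q).map (Subgroup.subtype Q) = V := by
  rw [map_subtype_commutator]
  refine le_antisymm (commutator_le.2 fun a ha b hb => ?_) fun v hv => ?_
  · rw [← S.P_eq_Q hU] at ha hb
    exact S.comm_mem ha hb
  · obtain ⟨u, hu, hu1⟩ := S.nbr_ne_bot hU
    obtain ⟨p, hp, rfl⟩ := S.comm_surj hU hu hu1 hv
    exact commutator_mem_commutator (hU.2.2 hu) hp.1

theorem frattini_eq (hU : Nbr V Q U) : (frattini ↥Q).map (Subgroup.subtype Q) = V := by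
  have : Fact (Nat.Prime 2) := ⟨Nat.prime_two⟩
  refine le_antisymm ?_ ((S.commutator_eq hU).ge.trans (map_mono (CfsgLib.PGroup.commutator_le_frattini S.Q_two)))
  refine (map_mono (CfsgLib.PGroup.frattini_le_of (p := 2) (V.subgroupOf Q) ?_ fun x => ?_)).trans ?_
  · intro x hx
    exact mem_subgroupOf.2 ((S.commutator_eq hU).le ⟨x, hx, rfl⟩)
  · rw [mem_subgroupOf, pow_two]
    exact S.sq_mem (by rw [S.P_eq_Q hU]; exact x.2)
  · exact fun x ⟨y, hy, e⟩ => e ▸ mem_subgroupOf.1 hy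

theorem existsUnique_conj (hU : Nbr V Q U) {w : G} (hw : w ∈ V ⊔ U) (hw1 : w ≠ 1) :
    ∃! T : Subgroup G, (∃ x : G, T = conjSub V x) ∧ T ≤ V ⊔ U ∧ w ∈ T := by
  have huniq : ∀ T T' : Subgroup G, (∃ x : G, T = conjSub V x) → (∃ x : G, T' = conjSub V x) →
      w ∈ T → w ∈ T' → T = T' := by
    rintro T T' ⟨x, rfl⟩ ⟨y, rfl⟩ h h'
    exact S.conj_eq_of_mem h h' hw1
  by_cases hwV : w ∈ V
  · refine ⟨V, ⟨⟨1, (conjSub_one V).symm⟩, le_sup_left, hwV⟩, fun T hT => ?_⟩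
    exact huniq T V hT.1 ⟨1, (conjSub_one V).symm⟩ hT.2.2 hwV
  · obtain ⟨p, hp, hwT⟩ := S.mem_W_cases hU hw hwV
    obtain ⟨⟨x, hx⟩, -, -⟩ := id hU
    have hconj : ∃ y : G, conjSub U p = conjSub V y := ⟨p * x, by rw [hx, conjSub_conjSub]⟩
    have hle : conjSub U p ≤ V ⊔ U := by
      refine (conjSub_mono (le_sup_right : U ≤ V ⊔ U) p).trans (le_of_eq ?_)
      exact conjSub_eq_iff.2 (S.P_le_norm_sup hU hp)
    exact ⟨conjSub U p, ⟨hconj, hle, hwT⟩, fun T hT => huniq T _ hT.1 hconj hT.2.2 hwT⟩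

end Setup

end CfsgLib.TIWeak
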