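import Cfsg.Agent.Lib.Classif.TIWeak.Pairing

/-! An element interchanging `V` and a neighbour. -/

set_option autoImplicit false

namespace CfsgLib.TIWeak

open Subgroup CfsgLib.Classif
open scoped commutatorElement

variable {G : Type*} [Group G] [Finite G] {V Q : Subgroup G}

/-- A 2-subgroup containing a maximal 2-subgroup of `K` and lying in `K` is equal to it. -/
theorem exists_max_two (K : Subgroup G) {A : Subgroup G} (hA : A ≤ K) (hA2 : IsPGroup 2 ↥A) :
    ∃ T : Subgroup G, A ≤ T ∧ T ≤ K ∧ IsPGroup 2 ↥T ∧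
      ∀ R : Subgroup G, T ≤ R → R ≤ K → IsPGroup 2 ↥R → R = T := by
  obtain ⟨T, hAT, hmax⟩ := Set.Finite.exists_le_maximal
    (Set.toFinite {T : Subgroup G | T ≤ K ∧ IsPGroup 2 ↥T}) (show A ∈ _ from ⟨hA, hA2⟩)
  exact ⟨T, hAT, hmax.1.1, hmax.1.2, fun R h1 h2 h3 => le_antisymm (hmax.2 ⟨h2, h3⟩ h1) h1⟩

/-- Maximal 2-subgroups of `K` have the maximal order. -/
theorem card_le_of_max (K : Subgroup G) {T A : Subgroup G} (hT : T ≤ K) (hT2 : IsPGroup 2 ↥T)
    (hmax : ∀ R : Subgroup G, T ≤ R → R ≤ K → IsPGroup 2 ↥R → R = T) (hA : A ≤ K) (hA2 : IsPGroup 2 ↥A) :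
    Nat.card ↥A ≤ Nat.card ↥T := by
  have : Fact (Nat.Prime 2) := ⟨Nat.prime_two⟩
  obtain ⟨R, hR⟩ := (hT2.comap_subtype (K := K)).exists_le_sylow
  obtain ⟨R', hR'⟩ := (hA2.comap_subtype (K := K)).exists_le_sylow
  have heq : (R : Subgroup ↥K).map K.subtype = T :=
    hmax _ (fun t ht => ⟨⟨t, hT ht⟩, hR (mem_subgroupOf.2 ht), rfl⟩) (map_subtype_le _) (R.2.map _)
  rw [← heq, card_map_of_injective K.subtype_injective, R.card_eq_multiplicity, ← R'.card_eq_multiplicity,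
    ← card_map_of_injective K.subtype_injective (K := (R' : Subgroup ↥K))]
  exact card_le_of_le fun a ha => ⟨⟨a, hA ha⟩, hR' (mem_subgroupOf.2 ha), rfl⟩

namespace Setup

variable (S : Setup V Q) {U : Subgroup G}
include S

theorem centV_le (hU : Nbr V Q U) : centralizer (V : Set G) ≤ normalizer (V : Set G) := by
  intro x hx
  obtain ⟨u, hu, hu1⟩ := S.nbr_ne_bot hU
  exact Subgroup.centralizer_le_normalizer _ hx

/-- The stabilizer of the series `P ≥ V ≥ 1` in `N(V)` lies in `P`. -/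
theorem stab_le {t : G} (ht : t ∈ normalizer (V : Set G)) (htV : ∀ v ∈ V, t * v = v * t)
    (htP : ∀ p ∈ S.P, t * p * t⁻¹ * p⁻¹ ∈ V) : t ∈ S.P := by
  let R : Subgroup G :=
    { carrier := {m | m ∈ normalizer (V : Set G) ∧ (∀ v ∈ V, m * v = v * m) ∧ ∀ p ∈ S.P, m * p * m⁻¹ * p⁻¹ ∈ V}
      one_mem' := ⟨one_mem _, fun v _ => by simp, fun p _ => by simp⟩
      mul_mem' := fun {a b} ha hb => ⟨mul_mem ha.1 hb.1, fun v hv => by
          rw [mul_assoc, hb.2.1 v hv, ← mul_assoc, ha.2.1 v hv, mul_assoc], fun p hp => by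
          have e : a * b * p * (a * b)⁻¹ * p⁻¹ = a * (b * p * b⁻¹ * p⁻¹) * a⁻¹ * (a * p * a⁻¹ * p⁻¹) := by group
          rw [e, ha.2.1 _ (hb.2.2 p hp), mul_inv_cancel_right]
          exact mul_mem (hb.2.2 p hp) (ha.2.2 p hp)⟩
      inv_mem' := fun {a} ha => ⟨inv_mem ha.1, fun v hv => by
          have h := ha.2.1 v hv
          calc a⁻¹ * v = a⁻¹ * (v * a) * a⁻¹ := by group
            _ = a⁻¹ * (a * v) * a⁻¹ := by rw [h]
            _ = v * a⁻¹ := by group, fun p hp => by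
          have hc := ha.2.2 p hp
          have e : a⁻¹ * p * a⁻¹⁻¹ * p⁻¹ = a⁻¹ * (a * p * a⁻¹ * p⁻¹)⁻¹ * a := by group
          rw [e]
          have := S.conjV (inv_mem ha.1) (inv_mem hc)
          rwa [inv_inv] at this⟩ }
  have hsq : ∀ m ∈ R, ∀ p ∈ S.P, m * m * p = p * (m * m) := by
    rintro m ⟨hm, hmV, hmP⟩ p hp
    set c := m * p * m⁻¹ * p⁻¹ with hc
    have hcV : c ∈ V := hmP p hp
    calc m * m * p = m * (c * p) * m := by rw [hc]; group
      _ = c * (m * p * m⁻¹) * (m * m) := by rw [← mul_assoc m c p, hmV c hcV]; group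
      _ = c * (c * p) * (m * m) := by rw [hc]; group
      _ = p * (m * m) := by rw [← mul_assoc c c p, S.sq hcV, one_mul]
  have hQ4 : ∀ m ∈ R, m ^ 4 ∈ Q := by
    intro m hmR
    obtain ⟨hm, hmV, -⟩ := id hmR
    have hm2 : m * m ∈ normalizer (V : Set G) := mul_mem hm hm
    refine S.constrained _ (pow_mem hm 4) fun q hq => ?_
    set c := m * m * q * (m * m)⁻¹ * q⁻¹ with hc
    have hcQ : c ∈ Q := mul_mem (S.Q_conj _ hm2 q hq) (inv_mem hq)
    have hc2V : ∀ v ∈ V, m * m * v = v * (m * m) := fun v hv => by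
      rw [mul_assoc, hmV v hv, ← mul_assoc, hmV v hv, mul_assoc]
    have hcV' : ∀ v ∈ V, c * v = v * c := by
      intro v hv
      have h1 : q⁻¹ * v * q ∈ V := (mem_normalizer_iff''.1 (S.Q_le hq) v).1 hv
      calc c * v = m * m * q * ((m * m)⁻¹ * (q⁻¹ * v * q) * (m * m)) * (m * m)⁻¹ * q⁻¹ := by rw [hc]; group
        _ = m * m * q * (q⁻¹ * v * q) * (m * m)⁻¹ * q⁻¹ := by
            rw [show (m * m)⁻¹ * (q⁻¹ * v * q) * (m * m) = q⁻¹ * v * q by
              rw [mul_assoc, ← hc2V _ h1, inv_mul_cancel_left]]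
        _ = m * m * v * (q * (m * m)⁻¹ * q⁻¹) := by group
        _ = v * (m * m) * (q * (m * m)⁻¹ * q⁻¹) := by rw [hc2V v hv]
        _ = v * c := by rw [hc]; group
    have hcP : c ∈ S.P := ⟨hcQ, mem_centralizer_iff.2 fun v hv => (hcV' v hv).symm⟩
    have hcV : c ∈ V := by
      refine S.center_P hcP fun p hp => ?_
      have h1 : q⁻¹ * p * q ∈ S.P := by simpa using S.P_conj (inv_mem (S.Q_le hq)) hp
      have hR : m ∈ R := hmR
      have h2 := hsq m hR _ h1
      have h3 := hsq m hR p hp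
      have h4 : (m * m)⁻¹ * p * (m * m) = p := by rw [mul_assoc, ← h3, inv_mul_cancel_left]
      calc c * p = m * m * q * (m * m)⁻¹ * (q⁻¹ * p * q) * q⁻¹ := by rw [hc]; group
        _ = m * m * q * ((q⁻¹ * p * q) * (m * m)⁻¹) * q⁻¹ := by
            rw [mul_assoc (m * m * q) (m * m)⁻¹, show (m * m)⁻¹ * (q⁻¹ * p * q) = q⁻¹ * p * q * (m * m)⁻¹ by
              rw [eq_mul_inv_iff_mul_eq, mul_assoc, ← h2, inv_mul_cancel_left]]
        _ = m * m * p * (q * (m * m)⁻¹ * q⁻¹) := by group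
        _ = p * (m * m) * (q * (m * m)⁻¹ * q⁻¹) := by rw [h3]
        _ = p * c := by rw [hc]; group
    have h4 : m ^ 4 = m * m * (m * m) := by simp [pow_succ, mul_assoc]
    have e1 : m * m * q = c * q * (m * m) := by rw [hc]; group
    calc m ^ 4 * q = m * m * (m * m * q) := by rw [h4, mul_assoc]
      _ = m * m * (c * q * (m * m)) := by rw [e1]
      _ = m * m * c * q * (m * m) := by simp only [mul_assoc]
      _ = c * (m * m * q) * (m * m) := by rw [hc2V c hcV]; simp only [mul_assoc]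
      _ = c * (c * q * (m * m)) * (m * m) := by rw [e1]
      _ = c * c * q * (m * m * (m * m)) := by simp only [mul_assoc]
      _ = q * m ^ 4 := by rw [S.sq hcV, one_mul, h4]
  have hR2 : IsPGroup 2 ↥R := by
    rintro ⟨m, hm⟩
    obtain ⟨k, hk⟩ := S.Q_two ⟨m ^ 4, hQ4 m hm⟩
    refine ⟨2 + k, Subtype.ext ?_⟩
    simpa [pow_add, pow_mul] using congrArg Subtype.val hk
  have hRn : ∀ m ∈ normalizer (V : Set G), ∀ r ∈ R, m * r * m⁻¹ ∈ R := by
    rintro m hm r ⟨hr, hrV, hrP⟩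
    refine ⟨mul_mem (mul_mem hm hr) (inv_mem hm), fun v hv => ?_, fun p hp => ?_⟩
    · have h := hrV _ ((mem_normalizer_iff''.1 hm v).1 hv)
      calc m * r * m⁻¹ * v = m * (r * (m⁻¹ * v * m)) * m⁻¹ := by group
        _ = m * (m⁻¹ * v * m * r) * m⁻¹ := by rw [h]
        _ = v * (m * r * m⁻¹) := by group
    · have h := S.conjV hm (hrP _ (S.P_conj (inv_mem hm) hp))
      convert h using 1
      group
  exact ⟨S.Q_max R (fun m hm => hm.1) hRn hR2 ⟨ht, htV, htP⟩, mem_centralizer_iff.2 fun v hv => (htV v hv).symm⟩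

/-- Some element centralizing `U` moves `V` inside `W = UV`. -/
theorem exists_mover (hU : Nbr V Q U) :
    ∃ y, (∀ u ∈ U, y * u = u * y) ∧ conjSub V y ≠ V ∧ conjSub V y ≤ V ⊔ U := by
  have : Fact (Nat.Prime 2) := ⟨Nat.prime_two⟩
  set K := centralizer (U : Set G) ⊓ normalizer (V : Set G) with hK
  set X := S.P ⊓ centralizer (U : Set G) with hX
  have hXK : X ≤ K := le_inf inf_le_right (inf_le_left.trans S.P_le)
  have hXn : ∀ k ∈ K, ∀ x ∈ X, k * x * k⁻¹ ∈ X := fun k hk x hx =>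
    ⟨S.P_conj hk.2 hx.1, Subgroup.mul_mem _ (Subgroup.mul_mem _ hk.1 hx.2) (Subgroup.inv_mem _ hk.1)⟩
  obtain ⟨S₀, hXS, hS₀K, hS₀2, hmax⟩ := exists_max_two K hXK (S.P_two.to_le inf_le_left)
  have hS₀V : S₀ ≤ centralizer (V : Set G) :=
    S.centralize_of_two hU hS₀2 (hS₀K.trans inf_le_right) (hS₀K.trans inf_le_left)
  -- `S₀` is not a Sylow 2-subgroup of `C(U)`
  have hPS : IsPGroup 2 ↥(S₀ ⊔ S.P) := by
    refine hS₀2.to_sup_of_normal_right' S.P_two fun s hs => ?_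
    exact mem_normalizer_fintype (S := (S.P : Set G)) fun p hp => S.P_conj (hS₀K hs).2 hp
  obtain ⟨⟨x, hx⟩, -, -⟩ := id hU
  have hbig : ∃ A : Subgroup G, A ≤ centralizer (U : Set G) ∧ IsPGroup 2 ↥A ∧ Nat.card ↥S₀ < Nat.card ↥A := by
    refine ⟨conjSub (S₀ ⊔ S.P) x, ?_, hPS.map _, ?_⟩
    · have h : S₀ ⊔ S.P ≤ centralizer (V : Set G) := sup_le hS₀V inf_le_right
      rintro _ ⟨a, ha, rfl⟩
      refine mem_centralizer_iff.2 fun u hu => ?_
      rw [hx] at hu
      obtain ⟨v, hv, rfl⟩ := hu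
      have := mem_centralizer_iff.1 (h ha) v hv
      show x * v * x⁻¹ * (x * a * x⁻¹) = x * a * x⁻¹ * (x * v * x⁻¹)
      calc x * v * x⁻¹ * (x * a * x⁻¹) = x * (v * a) * x⁻¹ := by group
        _ = x * (a * v) * x⁻¹ := by rw [this]
        _ = _ := by group
    · rw [card_conjSub]
      by_contra hle
      have heq := eq_of_le_of_card_ge (le_sup_left : S₀ ≤ S₀ ⊔ S.P) (not_lt.1 hle)
      obtain ⟨u, hu, hu1⟩ := S.nbr_ne_bot hU
      obtain ⟨v, hv, hv1⟩ : ∃ v ∈ V, v ≠ 1 := by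
        rw [hx] at hu
        obtain ⟨v, hv, rfl⟩ := hu
        exact ⟨v, hv, fun h => hu1 (by simp [h])⟩
      obtain ⟨p, hp, hpv⟩ := S.comm_surj hU hu hu1 hv
      have := mem_centralizer_iff.1 (hS₀K (heq.ge ((le_sup_right (a := S₀)) hp))).1 u hu
      exact hv1 (by rw [← hpv]; exact commutatorElement_eq_one_iff_mul_comm.2 this)
  obtain ⟨A, hAC, hA2, hAcard⟩ := hbig
  obtain ⟨R, hS₀R, hRC, hR2, hRmax⟩ := exists_max_two (centralizer (U : Set G)) (hS₀K.trans inf_le_left) hS₀2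
  have hlt : S₀ < R := lt_of_le_of_ne hS₀R fun h => by
    have := card_le_of_max _ hRC hR2 hRmax hAC hA2
    rw [h] at hAcard
    omega
  have := hR2.isNilpotent
  obtain ⟨⟨y, hyR⟩, hyN, hyS⟩ := SetLike.exists_of_lt
    (Group.normalizerCondition_of_isNilpotent (S₀.subgroupOf R)
      (lt_top_iff_ne_top.2 fun h => hlt.not_ge (subgroupOf_eq_top.1 h)))
  rw [← subgroupOf_normalizer_eq hS₀R] at hyN
  have hyN' : y ∈ normalizer (S₀ : Set G) := hyN
  have hyV : y ∉ normalizer (V : Set G) := fun h => hyS (mem_subgroupOf.2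
    ((hmax (R ⊓ normalizer (V : Set G)) (le_inf hS₀R (hS₀K.trans inf_le_right)) (inf_le_inf_right _ hRC)
      (hR2.to_le inf_le_left)).le ⟨hyR, h⟩))
  have hyU : ∀ u ∈ U, y * u = u * y := fun u hu => (mem_centralizer_iff.1 (hRC hyR) u hu).symm
  have hne : conjSub V y ≠ V := fun h => hyV (conjSub_eq_iff.1 h)
  refine ⟨y, hyU, hne, ?_⟩
  rintro _ ⟨v₀, hv₀, rfl⟩
  set t := y * v₀ * y⁻¹ with ht
  show t ∈ V ⊔ U
  have hvS : ∀ s ∈ S₀, v₀ * s = s * v₀ := fun s hs => mem_centralizer_iff.1 (hS₀V hs) v₀ hv₀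
  have htS : ∀ s ∈ S₀, t * s = s * t := fun s hs => by
    have h1 : y⁻¹ * s * y ∈ S₀ := (mem_normalizer_iff''.1 hyN' s).1 hs
    calc t * s = y * (v₀ * (y⁻¹ * s * y)) * y⁻¹ := by rw [ht]; group
      _ = y * ((y⁻¹ * s * y) * v₀) * y⁻¹ := by rw [hvS _ h1]
      _ = s * t := by rw [ht]; group
  have hVS₀ : V ≤ S₀ := le_trans (le_inf S.V_le_P fun v hv => mem_centralizer_iff.2 fun u hu =>
    (S.nbr_commV hU hu hv)) hXS
  have htV : ∀ v ∈ V, t * v = v * t := fun v hv => htS v (hVS₀ hv)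
  have htU : ∀ u ∈ U, t * u = u * t := fun u hu => by
    have h : Commute v₀ u := (S.nbr_commV hU hu hv₀).symm
    have hy : Commute y u := hyU u hu
    exact ((hy.mul_left h).mul_left hy.inv_left).eq
  have htn : t ∈ normalizer (V : Set G) :=
    Subgroup.centralizer_le_normalizer _ (mem_centralizer_iff.2 fun v hv => (htV v hv).symm)
  have htX : ∀ x ∈ X, t * x = x * t := fun x hx => htS x (hXS hx)
  obtain ⟨u₀, hu₀, hu₀1⟩ := S.nbr_ne_bot hU
  have hstab : ∀ p ∈ S.P, t * p * t⁻¹ * p⁻¹ ∈ V := by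
    intro p hp
    have htp : t * p * t⁻¹ ∈ S.P := S.P_conj htn hp
    have hpc : p⁻¹ ∈ S.P := inv_mem hp
    set c := p⁻¹ * (t * p * t⁻¹) with hc
    have hcP : c ∈ S.P := mul_mem hpc htp
    have htp' : ∀ u ∈ U, ⁅u, t * p * t⁻¹⁆ = ⁅u, p⁆ := by
      intro u hu
      have h1 : t * u * t⁻¹ = u := by rw [htU u hu, mul_inv_cancel_right]
      have h2 : t * ⁅u, p⁆ * t⁻¹ = ⁅u, p⁆ := by
        rw [htV _ (S.comm_mem (S.nbr_le_P hU hu) hp), mul_inv_cancel_right]
      conv_rhs => rw [← h2]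
      conv_lhs => rw [← h1]
      simp only [commutatorElement_def]
      group
    have hcU : ∀ u ∈ U, c * u = u * c := by
      intro u hu
      refine (commutatorElement_eq_one_iff_mul_comm.1 ?_).symm
      rw [S.comm_mul_right hpc htp (S.nbr_le_P hU hu), htp' u hu,
        ← S.comm_mul_right hpc hp (S.nbr_le_P hU hu), inv_mul_cancel, commutatorElement_one_right]
    have hcX : ∀ x ∈ X, c * x = x * c := by
      intro x hx
      have h1 : p * x * p⁻¹ ∈ X := by
        rw [Setup.mul_of_comm]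
        exact mul_mem (⟨S.V_le_P (S.comm_mem hp hx.1), mem_centralizer_iff.2 fun u hu =>
          S.nbr_commV hU hu (S.comm_mem hp hx.1)⟩ : ⁅p, x⁆ ∈ X) hx
      have h2 : t⁻¹ * x * t = x := by rw [mul_assoc, ← htX x hx, inv_mul_cancel_left]
      calc c * x = p⁻¹ * (t * (p * (t⁻¹ * x * t) * p⁻¹) * t⁻¹) * (t * p * t⁻¹) := by rw [hc]; group
        _ = p⁻¹ * (p * x * p⁻¹) * (t * p * t⁻¹) := by rw [h2, htX _ h1, mul_inv_cancel_right]
        _ = x * c := by rw [hc]; group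
    obtain ⟨v, hv, u, hu, hcvu⟩ := (S.mem_sup_iff hU).1 (S.cent_cent hU hcP hcX)
    have hpc2 : t * p * t⁻¹ = p * c := by rw [hc, mul_inv_cancel_left]
    have hsq : p * c * (p * c) = p * p := by
      rw [← hpc2, show t * p * t⁻¹ * (t * p * t⁻¹) = t * (p * p) * t⁻¹ by group, htV _ (S.sq_mem hp),
        mul_inv_cancel_right]
    have hu1 : u = 1 := by
      by_contra hu1
      have h1 : p * (v * u) * (p * (v * u)) = p * (u * p * u) := by
        have e1 : v * u * p = u * p * v := by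
          rw [← S.nbr_commV hU hu hv, mul_assoc, ← S.P_comm hp hv, mul_assoc]
        calc p * (v * u) * (p * (v * u)) = p * (v * u * p) * (v * u) := by group
          _ = p * (u * p) * (v * v) * u := by rw [e1]; group
          _ = _ := by rw [S.sq hv]; group
      rw [hcvu, h1, mul_left_cancel_iff] at hsq
      have h2 : p * u = u * p := by
        calc p * u = u * (u * p * u) := by
              rw [← mul_assoc, ← mul_assoc, S.nbr_sq hU hu, one_mul]
          _ = u * p := by rw [hsq]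
      -- then `p` centralizes `U`, so it commutes with `t`
      have hpX : p ∈ X := ⟨hp, mem_centralizer_iff.2 fun u' hu' => (S.nbr_cent hU hp hu hu1 h2 hu').symm⟩
      have hc1 : c = 1 := by rw [hc, htX p hpX, mul_inv_cancel_right, inv_mul_cancel]
      have huV : u ∈ U ⊓ V := ⟨hu, by
        rw [show u = v⁻¹ * c by rw [hcvu, inv_mul_cancel_left], hc1, mul_one]; exact V.inv_mem hv⟩
      rw [S.nbr_inf hU, mem_bot] at huV
      exact hu1 huV
    rw [hpc2, hcvu, hu1, mul_one, S.P_comm hp hv, mul_assoc, mul_inv_cancel, mul_one]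
    exact hv
  exact S.cent_cent hU (S.stab_le htn htV hstab) htX

/-- An element interchanging `V` and `U`. -/
theorem exists_swap (hU : Nbr V Q U) : ∃ s, conjSub U s = V ∧ conjSub V s = U := by
  obtain ⟨y, hyU, hne, hle⟩ := S.exists_mover hU
  obtain ⟨u₀, hu₀, hu₀1⟩ := S.nbr_ne_bot hU
  have hVb : ∃ v ∈ V, v ≠ 1 := by
    obtain ⟨⟨x, rfl⟩, -, -⟩ := hU
    obtain ⟨v, hv, rfl⟩ := hu₀
    exact ⟨v, hv, fun h => hu₀1 (by simp [h])⟩
  obtain ⟨v₁, hv₁, hv₁1⟩ := hVb
  have hW : conjSub (V ⊔ U) y = V ⊔ U := by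
    refine eq_of_le_of_card_ge ?_ (card_conjSub _ y).ge
    rw [conjSub, Subgroup.map_sup]
    refine sup_le hle ?_
    rintro _ ⟨u, hu, rfl⟩
    show y * u * y⁻¹ ∈ V ⊔ U
    rw [hyU u hu, mul_inv_cancel_right]
    exact (le_sup_right : U ≤ V ⊔ U) hu
  have hyUU : conjSub U y = U := conjSub_eq_iff.2 <| mem_normalizer_fintype (S := (U : Set G)) fun u hu => by
    rw [hyU u hu, mul_inv_cancel_right]; exact hu
  have hyi : conjSub V y⁻¹ ≤ V ⊔ U := by
    refine (conjSub_mono (le_sup_left : V ≤ V ⊔ U) y⁻¹).trans (le_of_eq ?_)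
    have := congrArg (conjSub · y⁻¹) hW
    simp only [conjSub_conjSub, inv_mul_cancel, conjSub_one] at this
    exact this.symm
  obtain ⟨p, hp, hpT⟩ : ∃ p ∈ S.P, conjSub V y = conjSub U p := by
    refine (S.conj_in_W hU (conj_mem_conjSub y hv₁) (hle (conj_mem_conjSub y hv₁)) ?_).resolve_left hne
    simpa using hv₁1
  obtain ⟨p', hp', hpT'⟩ : ∃ p' ∈ S.P, conjSub V y⁻¹ = conjSub U p' := by
    refine (S.conj_in_W hU (conj_mem_conjSub y⁻¹ hv₁) (hyi (conj_mem_conjSub y⁻¹ hv₁)) ?_).resolve_left ?_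
    · intro h
      apply hv₁1
      have := mul_inv_eq_one.1 h
      simpa using this
    · intro h
      apply hne
      have := congrArg (conjSub · y) h
      simp only [conjSub_conjSub, mul_inv_cancel, conjSub_one] at this
      exact this.symm
  have hpV : ∀ q ∈ S.P, conjSub V q = V := fun q hq => conjSub_eq_iff.2 (S.P_le hq)
  refine ⟨p'⁻¹ * (y⁻¹ * p), ?_, ?_⟩
  · rw [← conjSub_conjSub, ← conjSub_conjSub, ← hpT, conjSub_conjSub, conjSub_conjSub,
      inv_mul_cancel_right, hpV _ (inv_mem hp')]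
  · rw [← conjSub_conjSub, ← conjSub_conjSub, hpV _ hp, hpT', conjSub_conjSub, inv_mul_cancel, conjSub_one]

end Setup

end CfsgLib.TIWeak
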